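import Groth.Agent.DerivedCoh.ExactHom.Coker
import Groth.Agent.DerivedCoh.Fibre.Concentrated
import Groth.Agent.S9824

/-!
Flatness of the cokernels of the differentials of a pseudo-coherent object: openness, consequences,
and the criterion on reduced schemes.
-/

universe u

open CategoryTheory CategoryTheory.Limits AlgebraicGeometry HomologicalComplex TopologicalSpace
open Groth.DerivedCoh.KFlat (stk T)
open Groth.DerivedCoh.StalkAmp (stkCx stkD stkDQ near_stkD)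
open Groth.DerivedCoh.PCoh (Near)
open Groth.KTheory.Perf (Rd Rc rdQIso)
open Groth.DerivedCoh.Fibre (fibF resS rkF bRes)

namespace Groth.DerivedCoh.ExactHom

attribute [local instance] HasDerivedCategory.standard

variable {X U : Scheme.{u}}

local notation "up" => ComplexShape.up ℤ

/-- a chart by free modules of finite rank, with the flatness of cokernels in higher degrees -/
theorem exists_chart {F P : CochainComplex X.Modules ℤ} {e : ℤ} (hP0 : ∀ q, e < q → IsZero (P.X q))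
    (hPf : ∀ q, FlatMod.IsFlat (P.X q)) (β : P ⟶ F) [QuasiIso β] {m : ℤ}
    (hE : DCoh.IsPseudoCoherentD m (DCoh.toD X F)) (x : X) :
    ∃ (U : Scheme.{u}) (j : U ⟶ X) (_ : IsOpenImmersion j) (u : U)
      (Q : CochainComplex U.Modules ℤ) (n : ℤ → ℕ) (α : DCoh.toD U Q ⟶ (Rd j).obj (DCoh.toD X F)),
      j u = x ∧ DCoh.IsStrictlyPerfect Q ∧ Near m α ∧
      (∀ q, Nonempty (Q.X q ≅ FlatMod.freeMod U (n q))) ∧
      ∀ (v : U) (q : ℤ), m < q → (Good Q v q ↔ Good P (j v) q) := by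
  obtain ⟨V, hxV, F₁, α₁, hF, hα₁⟩ := (PCoh.isPseudoCoherentD_iff m _).1 hE x
  obtain ⟨⟨a, b, hab⟩, hfl⟩ := id hF
  obtain ⟨W, hxW, hW⟩ := Groth.KTheory.Perf.exists_free_nhd F₁ (Finset.Icc a b) (fun i _ => hfl i)
    ⟨x, hxV⟩
  obtain ⟨c⟩ := Groth.KTheory.Perf.nonempty_rdComp (k := W.ι) (j := V.ι) (l := W.ι ≫ V.ι) rfl
    (DCoh.toD X F)
  have hn : ∀ q, ∃ n : ℕ, Nonempty (((Rc W.ι).obj F₁).X q ≅ FlatMod.freeMod (↑W) n) := fun q => by
    by_cases hq : q ∈ Finset.Icc a b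
    · exact hW q hq
    · simp only [Finset.mem_Icc, not_and_or, not_le] at hq
      exact ⟨0, Groth.KTheory.Perf.nonempty_free_zero
        (Groth.KTheory.Perf.rc_isZero W.ι (hab q hq))⟩
  choose n hn using hn
  let j := W.ι ≫ V.ι
  let Q := (Rc W.ι).obj F₁
  have hQ : DCoh.IsStrictlyPerfect Q := Groth.KTheory.Perf.rc_isStrictlyPerfect W.ι hF
  let α := (rdQIso W.ι F₁).inv ≫ (Rd W.ι).map α₁ ≫ c.inv
  have hα : Near m α :=
    (PCoh.near_of_isIso _).comp ((PCoh.near_rd _ hα₁).comp (PCoh.near_of_isIso _))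
  refine ⟨W, j, inferInstance, ⟨⟨x, hxV⟩, hxW⟩, Q, n, α, rfl, hQ, hα, hn, fun v q hq => ?_⟩
  rw [← good_rc j P v q]
  let γ : DCoh.toD _ Q ⟶ DCoh.toD _ ((Rc j).obj P) :=
    α ≫ (Rd j).map (inv (DerivedCategory.Q.map β)) ≫ (rdQIso j P).hom
  have hγ : Near m γ := hα.comp ((PCoh.near_of_isIso _).comp (PCoh.near_of_isIso _))
  obtain ⟨⟨a', b', hab'⟩, hfl'⟩ := id hQ
  exact flat_coker_iff_of_near ((stkCx v).obj Q) ((stkCx v).obj ((Rc j).obj P)) (d := b') (e := e)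
    (fun i hi => (stk v).map_isZero (hab' i (.inr hi)))
    (fun i => @Module.Projective.of_free _ _ _ _ _ (Groth.PropsBasic.LocFree.free_stalk _ (hfl' i) v))
    (fun i hi => (stk v).map_isZero (Groth.KTheory.Perf.rc_isZero j (hP0 i hi)))
    (fun i => PCoh.isFlat_restrict j (hPf i) v)
    ((stkDQ v Q).inv ≫ (stkD v).map γ ≫ (stkDQ v _).hom)
    ((PCoh.near_of_isIso _).comp ((near_stkD v hγ).comp (PCoh.near_of_isIso _))) hq

section chart

variable {Q : CochainComplex U.Modules ℤ}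

lemma isFinLocFree_of_good (hQ : DCoh.IsStrictlyPerfect Q) (q : ℤ) (h : ∀ v, Good Q v q) :
    FlatMod.IsFinLocFree (cokernel (Q.d (q - 1) q)) :=
  PCoh.isFinLocFree_coker (hQ.2 _) (hQ.2 _) _ fun v => (good_iff_stk Q v q).1 (h v)

lemma isFP_coker (hQ : DCoh.IsStrictlyPerfect Q) (a b : ℤ) : CohB1.IsFP (cokernel (Q.d a b)) := by
  have := Groth.KTheory.LocFree.isQCoh (hQ.2 a)
  have := Groth.KTheory.LocFree.isQCoh (hQ.2 b)
  exact Groth.QCohMod.isFP_cokernel_of_isFT _ (Groth.PropsBasic.LocFree.isFP_of_isFinLocFree _ (hQ.2 b))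
    (Groth.PropsBasic.LocFree.isFT_of_isFP _ (Groth.PropsBasic.LocFree.isFP_of_isFinLocFree _ (hQ.2 _)))

/-- flatness of a cokernel is open -/
theorem isOpen_good (hQ : DCoh.IsStrictlyPerfect Q) (q : ℤ) : IsOpen {v : U | Good Q v q} := by
  rw [isOpen_iff_forall_mem_open]
  intro v hv
  have := PCoh.isQCoh_coker (hQ.2 (q - 1)) (hQ.2 q) (Q.d (q - 1) q)
  have h1 : Module.Finite (U.presheaf.stalk v) ((stk v).obj (Q.X q)) :=
    Groth.LocFree.finite_stalk (hQ.2 q) v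
  let em : (stk v).obj (cokernel (Q.d (q - 1) q)) ≅ ModuleCat.of _
      (Groth.FlatCxBase.Coker ((stkCx v).obj Q) (q - 1) q) :=
    PreservesCokernel.iso (stk v) _ ≪≫ ModuleCat.cokernelIsoRangeQuotient _
  have : Module.Finite (U.presheaf.stalk v) (((stkCx v).obj Q).X q) := h1
  have h2 : Module.Free (U.presheaf.stalk v)
      (Groth.FlatCxBase.Coker ((stkCx v).obj Q) (q - 1) q) :=
    @Module.free_of_flat_of_isLocalRing _ _ _ _ _ _ inferInstance hv
  obtain ⟨D, n, hvD, ⟨eD⟩⟩ := Groth.PropsBasic.LocFree.exists_free_nhd _ (isFP_coker hQ (q - 1) q) v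
    (Module.Free.of_equiv em.symm.toLinearEquiv)
  refine ⟨D, fun w hw => ?_, D.2, hvD⟩
  have h3 : FlatMod.IsFlat (cokernel (((Rc D.ι).obj Q).d (q - 1) q)) :=
    Groth.CohTwo.isFlat_of_iso ((PreservesCokernel.iso (Scheme.Modules.restrictFunctor D.ι) _).symm ≪≫ eD)
      (PCoh.isFlat_of_isFinLocFree (Groth.LocFree.isFinLocFree_freeMod _ n))
  exact (good_rc D.ι Q ⟨w, hw⟩ q).1 ((good_iff_stk _ _ q).2 (h3 _))

/-- rank of the fibre at the residue field -/
noncomputable def frk (M : U.Modules) (v : U) : ℕ :=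
  Module.finrank (IsLocalRing.ResidueField (U.presheaf.stalk v)) ((fibF (resS v)).obj M)

lemma frk_eq (M : U.Modules) (v : U) : frk M v = Groth.PropsBasic.LocFree.fibreRank M v :=
  (Groth.FlatCxBase.extendEquiv _ ((stk v).obj M)).finrank_eq

lemma isLocallyConstant_frk {M : U.Modules} (hM : FlatMod.IsFinLocFree M) :
    IsLocallyConstant (frk M) := by
  rw [show frk M = Groth.PropsBasic.LocFree.fibreRank M from funext (frk_eq M)]
  exact Groth.PropsBasic.LocFree.isLocallyConstant_fibreRank M hM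

lemma finite_fib {M : U.Modules} (hM : FlatMod.IsFinLocFree M) (v : U) :
    Module.Finite (IsLocalRing.ResidueField (U.presheaf.stalk v)) ((fibF (resS v)).obj M) :=
  have : Module.Finite (U.presheaf.stalk v) ((stk v).obj M) := Groth.LocFree.finite_stalk hM v
  Module.Finite.equiv (Groth.FlatCxBase.extendEquiv _ ((stk v).obj M)).symm

lemma frk_coker {M N : U.Modules} (hN : FlatMod.IsFinLocFree N) (d : M ⟶ N) (v : U) :
    frk (cokernel d) v + rkF (resS v) d = frk N v := by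
  have := finite_fib hN v
  have : PreservesColimits (ModuleCat.extendScalars.{u, u, u} (resS v)) :=
    (ModuleCat.extendRestrictScalarsAdj.{u, u, u} (resS v)).leftAdjoint_preservesColimits
  rw [frk, (PreservesCokernel.iso (fibF (resS v)) d ≪≫
    ModuleCat.cokernelIsoRangeQuotient _).toLinearEquiv.finrank_eq]
  exact Submodule.finrank_quotient_add_finrank _

lemma bRes_add (hQ : DCoh.IsStrictlyPerfect Q) (p : ℤ) (v : U) :
    bRes Q v p + rkF (resS v) (Q.d (p - 1) p) + rkF (resS v) (Q.d p (p + 1)) = frk (Q.X p) v := by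
  let C := ((fibF (resS v)).mapHomologicalComplex up).obj Q
  have : Module.Finite (IsLocalRing.ResidueField (U.presheaf.stalk v)) (C.X p) := finite_fib (hQ.2 p) v
  exact Fibre.finrank_homology_add C p

lemma isFinLocFree_coker_succ (hQ : DCoh.IsStrictlyPerfect Q) (p : ℤ) (h : ∀ v, Good Q v (p + 1)) :
    FlatMod.IsFinLocFree (cokernel (Q.d p (p + 1))) := by
  have t : ∀ a, a = p → FlatMod.IsFinLocFree (cokernel (Q.d a (p + 1))) →
      FlatMod.IsFinLocFree (cokernel (Q.d p (p + 1))) := by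
    rintro _ rfl h; exact h
  exact t _ (by omega) (isFinLocFree_of_good hQ (p + 1) h)

/-- finite locally free cokernels: the cohomology is finite locally free -/
theorem isFinLocFree_homology (hQ : DCoh.IsStrictlyPerfect Q) (p : ℤ)
    (h₁ : FlatMod.IsFinLocFree (cokernel (Q.d (p - 1) p)))
    (h₂ : FlatMod.IsFinLocFree (cokernel (Q.d p (p + 1)))) :
    FlatMod.IsFinLocFree (Q.homology p) := by
  let g := Q.fromOpcycles p (p + 1)
  have h3 : FlatMod.IsFinLocFree (Q.opcycles p) :=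
    Groth.KTheory.LocFree.isFinLocFree_of_iso (IsColimit.coconePointUniqueUpToIso
      (Q.opcyclesIsCokernel (p - 1) p (by simp)) (cokernelIsCokernel _)).symm h₁
  let ec : cokernel (Q.d p (p + 1)) ≅ cokernel g :=
    cokernelIsoOfEq (Q.p_fromOpcycles p (p + 1)).symm ≪≫ cokernelEpiComp (Q.pOpcycles p) g
  let S₂ := ShortComplex.mk (Abelian.image.ι g) (cokernel.π g) (kernel.condition _)
  have hS₂ : S₂.ShortExact :=
    { exact := ShortComplex.exact_of_f_is_kernel S₂ (kernelIsKernel _) }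
  have hI : FlatMod.IsFinLocFree (Abelian.image g) :=
    Groth.LocFree.isFinLocFree_left hS₂ (hQ.2 (p + 1))
      (Groth.KTheory.LocFree.isFinLocFree_of_iso ec h₂)
  let S₁ := ShortComplex.mk (Q.homologyι p) (Abelian.factorThruImage g) (by
    rw [← cancel_mono (Abelian.image.ι g), Category.assoc, Abelian.image.fac, zero_comp]
    exact Q.homologyι_comp_fromOpcycles p (p + 1))
  have hex : (ShortComplex.mk (Q.homologyι p) g (Q.homologyι_comp_fromOpcycles p (p + 1))).Exact :=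
    ShortComplex.exact_of_f_is_kernel _ (Q.homologyIsKernel p (p + 1) (by simp))
  let φ : S₁ ⟶ ShortComplex.mk (Q.homologyι p) g (Q.homologyι_comp_fromOpcycles p (p + 1)) :=
    { τ₁ := 𝟙 _
      τ₂ := 𝟙 _
      τ₃ := Abelian.image.ι g }
  have : Epi φ.τ₁ := by dsimp [φ]; infer_instance
  have : IsIso φ.τ₂ := by dsimp [φ]; infer_instance
  have : Mono φ.τ₃ := by dsimp [φ]; infer_instance
  have hS₁ : S₁.ShortExact :=
    { exact := (ShortComplex.exact_iff_of_epi_of_isIso_of_mono φ).2 hex }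
  exact Groth.LocFree.isFinLocFree_left hS₁ h3 hI

end chart

/-- flat cokernels: the cohomology sheaf is finite locally free of locally constant rank -/
theorem isFinLocFree_hd {F P : CochainComplex X.Modules ℤ} {e : ℤ} (hP0 : ∀ q, e < q → IsZero (P.X q))
    (hPf : ∀ q, FlatMod.IsFlat (P.X q)) (β : P ⟶ F) [QuasiIso β] {p : ℤ}
    (hE : DCoh.IsPseudoCoherentD (p - 1) (DCoh.toD X F))
    [∀ x : X, DCoh.HasLpull (X.fromSpecResidueField x)]
    (h₁ : ∀ x, Good P x p) (h₂ : ∀ x, Good P x (p + 1)) :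
    FlatMod.IsFinLocFree (DCoh.HD (DCoh.toD X F) p) ∧
      IsLocallyConstant (fun x : X => PerfD.betti (DCoh.toD X F) x p) := by
  have key : ∀ x : X, (∃ V : X.Opens, x ∈ V ∧ FlatMod.IsFinLocFree ((DCoh.HD (DCoh.toD X F) p).restrict V.ι)) ∧
      ∃ O : Set X, IsOpen O ∧ x ∈ O ∧ ∀ y ∈ O,
        PerfD.betti (DCoh.toD X F) y p = PerfD.betti (DCoh.toD X F) x p := fun x => by
    obtain ⟨U, j, _, u, Q, n, α, rfl, hQ, hα, -, hg⟩ := exists_chart hP0 hPf β hE x
    have c₁ := isFinLocFree_of_good hQ p fun v => (hg v p (by omega)).2 (h₁ _)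
    have c₂ := isFinLocFree_coker_succ hQ p fun v => (hg v (p + 1) (by omega)).2 (h₂ _)
    refine ⟨⟨j.opensRange, ⟨u, rfl⟩, ?_⟩, ?_⟩
    · have := hα.1 p (by omega)
      let i : Q.homology p ≅ (DCoh.HD (DCoh.toD X F) p).restrict j :=
        (KFlat.hdIso Q p).symm ≪≫ asIso ((DerivedCategory.homologyFunctor _ p).map α) ≪≫
          (Groth.KTheory.Perf.nonempty_hdRd j (DCoh.toD X F) p).some
      have hfl := Groth.KTheory.LocFree.isFinLocFree_of_iso i (isFinLocFree_homology hQ p c₁ c₂)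
      intro v
      obtain ⟨w, hw⟩ := j.isoOpensRange.hom.surjective v
      obtain ⟨W, k, hW, ⟨eW⟩⟩ := hfl w
      let l := W.ι ≫ j.isoOpensRange.hom
      let i₂ := (Scheme.Modules.restrictFunctorComp W.ι j.isoOpensRange.hom).app
        ((DCoh.HD (DCoh.toD X F) p).restrict j.opensRange.ι)
      let i₃ := (Scheme.Modules.restrictFunctor W.ι).mapIso
        (((Scheme.Modules.restrictFunctorComp j.isoOpensRange.hom j.opensRange.ι).app
          (DCoh.HD (DCoh.toD X F) p)).symm ≪≫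
        (Scheme.Modules.restrictFunctorCongr (j.isoOpensRange_hom_ι)).app (DCoh.HD (DCoh.toD X F) p))
      let M := (DCoh.HD (DCoh.toD X F) p).restrict j.opensRange.ι
      let k' := l.isoOpensRange.inv
      obtain ⟨f⟩ := Groth.KTheory.Perf.nonempty_restrict_free k' eW
      let i₁ := (Scheme.Modules.restrictFunctorCongr (l.isoOpensRange_inv_comp.symm :
        l.opensRange.ι = k' ≫ l)).app M
      refine ⟨l.opensRange, k, ⟨⟨w, hW⟩, hw⟩, ⟨i₁ ≪≫ (Scheme.Modules.restrictFunctorComp k' l).app M ≪≫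
        (Scheme.Modules.restrictFunctor k').mapIso (i₂ ≪≫ i₃) ≪≫ f⟩⟩
    · obtain ⟨O₁, hO₁, hu₁, e₁⟩ := (isLocallyConstant_frk c₁).exists_open u
      obtain ⟨O₂, hO₂, hu₂, e₂⟩ := (isLocallyConstant_frk c₂).exists_open u
      obtain ⟨O₃, hO₃, hu₃, e₃⟩ := (isLocallyConstant_frk (hQ.2 p)).exists_open u
      obtain ⟨O₄, hO₄, hu₄, e₄⟩ := (isLocallyConstant_frk (hQ.2 (p + 1))).exists_open u
      refine ⟨j '' (O₁ ∩ O₂ ∩ O₃ ∩ O₄),
        j.isOpenEmbedding.isOpenMap _ (((hO₁.inter hO₂).inter hO₃).inter hO₄),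
        ⟨u, ⟨⟨⟨hu₁, hu₂⟩, hu₃⟩, hu₄⟩, rfl⟩, ?_⟩
      rintro _ ⟨v, ⟨⟨⟨h1, h2⟩, h3⟩, h4⟩, rfl⟩
      rw [Fibre.bRes_eq_betti_of_near _ j hQ α hα v p (by omega),
        Fibre.bRes_eq_betti_of_near _ j hQ α hα u p (by omega)]
      have a₁ := bRes_add hQ p v
      have a₂ := bRes_add hQ p u
      have b₁ := frk_coker (hQ.2 p) (Q.d (p - 1) p) v
      have b₂ := frk_coker (hQ.2 p) (Q.d (p - 1) p) u
      have b₃ := frk_coker (hQ.2 (p + 1)) (Q.d p (p + 1)) v
      have b₄ := frk_coker (hQ.2 (p + 1)) (Q.d p (p + 1)) u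
      have := e₁ v h1
      have := e₂ v h2
      have := e₃ v h3
      have := e₄ v h4
      omega
  exact ⟨Fibre.isFinLocFree_local fun x => (key x).1,
    (IsLocallyConstant.iff_exists_open _).2 fun x => (key x).2⟩

/-- openness of flat cokernels for a pseudo-coherent object -/
theorem isOpen_good_of_pcoh {F P : CochainComplex X.Modules ℤ} {e : ℤ}
    (hP0 : ∀ q, e < q → IsZero (P.X q)) (hPf : ∀ q, FlatMod.IsFlat (P.X q)) (β : P ⟶ F) [QuasiIso β]
    {m : ℤ} (hE : DCoh.IsPseudoCoherentD m (DCoh.toD X F)) {q : ℤ} (hq : m < q) :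
    IsOpen {x : X | Good P x q} := by
  rw [isOpen_iff_forall_mem_open]
  intro x hx
  obtain ⟨U, j, _, u, Q, n, α, rfl, hQ, hα, -, hg⟩ := exists_chart hP0 hPf β hE x
  refine ⟨j '' {v | Good Q v q}, ?_, j.isOpenEmbedding.isOpenMap _ (isOpen_good hQ q),
    u, (hg u q hq).2 hx, rfl⟩
  rintro _ ⟨v, hv, rfl⟩
  exact (hg v q hq).1 hv

/-- on a reduced scheme locally constant fibre dimensions make both cokernels flat -/
theorem good_of_betti {F P : CochainComplex X.Modules ℤ} [IsReduced X] {e : ℤ}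
    (hP0 : ∀ q, e < q → IsZero (P.X q)) (hPf : ∀ q, FlatMod.IsFlat (P.X q)) (β : P ⟶ F) [QuasiIso β]
    {p : ℤ} (hE : DCoh.IsPseudoCoherentD (p - 1) (DCoh.toD X F))
    [∀ x : X, DCoh.HasLpull (X.fromSpecResidueField x)]
    (hc : IsLocallyConstant (fun x : X => PerfD.betti (DCoh.toD X F) x p)) (x : X) :
    Good P x p ∧ Good P x (p + 1) := by
  obtain ⟨U, j, _, u, Q, n, α, rfl, hQ, hα, hn, hg⟩ := exists_chart hP0 hPf β hE x
  rw [← hg u p (by omega), ← hg u (p + 1) (by omega)]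
  have : IsReduced U := isReduced_of_isOpenImmersion j
  let R₁ : U → ℕ := fun v => rkF (resS v) (Q.d (p - 1) p)
  let R₂ : U → ℕ := fun v => rkF (resS v) (Q.d p (p + 1))
  have o₁ : ∀ r, IsOpen {v | r ≤ R₁ v} := fun r =>
    Fibre.isOpen_le_rkF' (fun v => resS v) (hn (p - 1)).some (hn p).some _ r
  have o₂ : ∀ r, IsOpen {v | r ≤ R₂ v} := fun r =>
    Fibre.isOpen_le_rkF' (fun v => resS v) (hn p).some (hn (p + 1)).some _ r
  have hB : IsLocallyConstant fun v => bRes Q v p := by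
    have : (fun v => bRes Q v p) = (fun x => PerfD.betti (DCoh.toD X F) x p) ∘ j := funext fun v =>
      (Fibre.bRes_eq_betti_of_near _ j hQ α hα v p (by omega)).symm
    rw [this]
    exact hc.comp_continuous j.continuous
  have hR : ∀ v₀, ∃ O : Set U, IsOpen O ∧ v₀ ∈ O ∧ ∀ v ∈ O, R₁ v = R₁ v₀ ∧ R₂ v = R₂ v₀ := fun v₀ => by
    obtain ⟨O₁, hO₁, hu₁, e₁⟩ := hB.exists_open v₀
    obtain ⟨O₃, hO₃, hu₃, e₃⟩ := (isLocallyConstant_frk (hQ.2 p)).exists_open v₀
    refine ⟨(O₁ ∩ O₃) ∩ ({v | R₁ v₀ ≤ R₁ v} ∩ {v | R₂ v₀ ≤ R₂ v}),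
      (hO₁.inter hO₃).inter ((o₁ _).inter (o₂ _)),
      ⟨⟨hu₁, hu₃⟩, le_rfl (a := R₁ v₀), le_rfl (a := R₂ v₀)⟩, ?_⟩
    rintro v ⟨⟨h1, h3⟩, h4, h5⟩
    have a₁ : bRes Q v p + R₁ v + R₂ v = _ := bRes_add hQ p v
    have a₂ : bRes Q v₀ p + R₁ v₀ + R₂ v₀ = _ := bRes_add hQ p v₀
    have := e₁ v h1
    have := e₃ v h3
    have h4' : R₁ v₀ ≤ R₁ v := h4
    have h5' : R₂ v₀ ≤ R₂ v := h5
    omega
  have flat : ∀ (a b : ℤ), (∀ v₀, ∃ O : Set U, IsOpen O ∧ v₀ ∈ O ∧
      ∀ v ∈ O, rkF (resS v) (Q.d a b) = rkF (resS v₀) (Q.d a b)) →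
      ∀ v, Module.Flat (U.presheaf.stalk v) ((stk v).obj (cokernel (Q.d a b))) := fun a b hab => by
    have := PCoh.isQCoh_coker (hQ.2 a) (hQ.2 b) (Q.d a b)
    refine PCoh.isFlat_of_isFinLocFree ((@Groth.Agent.S9824.result U _ _ this).2
      ⟨Groth.PropsBasic.LocFree.isFT_of_isFP _ (isFP_coker hQ a b), ?_⟩)
    rw [IsLocallyConstant.iff_exists_open]
    intro v₀
    obtain ⟨O, hO, hv₀, eO⟩ := hab v₀
    obtain ⟨O₁, hO₁, hu₁, e₁⟩ := (isLocallyConstant_frk (hQ.2 b)).exists_open v₀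
    refine ⟨O ∩ O₁, hO.inter hO₁, ⟨hv₀, hu₁⟩, fun v hv => ?_⟩
    have b₁ := frk_coker (hQ.2 b) (Q.d a b) v
    have b₂ := frk_coker (hQ.2 b) (Q.d a b) v₀
    have := eO v hv.1
    have := e₁ v hv.2
    change Groth.PropsBasic.LocFree.fibreRank _ v = Groth.PropsBasic.LocFree.fibreRank _ v₀
    rw [← frk_eq, ← frk_eq]
    omega
  refine ⟨(good_iff_stk Q u p).2 (flat _ _ (fun v₀ => ?_) u), (good_iff_stk Q u (p + 1)).2 ?_⟩
  · obtain ⟨O, hO, hv, eO⟩ := hR v₀
    exact ⟨O, hO, hv, fun v h => (eO v h).1⟩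
  · have t : ∀ a, a = p → Module.Flat (U.presheaf.stalk u) ((stk u).obj (cokernel (Q.d a (p + 1)))) := by
      rintro _ rfl
      exact flat _ _ (fun v₀ => by
        obtain ⟨O, hO, hv, eO⟩ := hR v₀
        exact ⟨O, hO, hv, fun v h => (eO v h).2⟩) u
    exact t _ (by omega)

end Groth.DerivedCoh.ExactHom
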