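import Groth.Agent.DerivedCoh.StalkAmp.FiniteTorDim
import Groth.Agent.DAlg.FlatAmp

/-!
Flatness of the cokernels of the differentials: transfer along near isomorphisms, restriction.
-/

universe u

open CategoryTheory CategoryTheory.Limits CategoryTheory.Pretriangulated AlgebraicGeometry
  MonoidalCategory HomologicalComplex
open Groth.FlatCxBase (Coker)
open Groth.DerivedCoh.KFlat (stk T)
open Groth.DerivedCoh.StalkAmp (stkCx stkD stkDQ near_stkD)
open Groth.DerivedCoh.PCoh (Near Below)
open Groth.KTheory.Perf (Rd Rc rdQIso)

namespace Groth.DerivedCoh.ExactHom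

attribute [local instance] HasDerivedCategory.standard

local notation "up" => ComplexShape.up ℤ

section ring

variable {R : Type u} [CommRing R]

/-- `M ↦ H^q(Q ⊗ M) → H^q(P ⊗ M)` -/
noncomputable def tfunMap {Q P : DRing.Cx R} (g : Q ⟶ P) (q : ℤ) :
    CohIII.TFun Q q ⟶ CohIII.TFun P q where
  app M := homologyMap (((tensorRight M).mapHomologicalComplex up).map g) q
  naturality M N f := by
    change homologyMap (CohIII.tensorMap Q f) q ≫
        homologyMap (((tensorRight N).mapHomologicalComplex up).map g) q =
      homologyMap (((tensorRight M).mapHomologicalComplex up).map g) q ≫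
        homologyMap (CohIII.tensorMap P f) q
    rw [← homologyMap_comp, ← homologyMap_comp]
    exact congrArg (homologyMap · q) ((NatTrans.mapHomologicalComplex
      ((tensoringRight (ModuleCat.{u} R)).map f) up).naturality g).symm

/-- a near isomorphism of flat complexes keeps flatness of the cokernels in higher degrees -/
theorem flat_coker_iff_of_near (Q P : DRing.Cx R) {d e m : ℤ} (hQd : DRing.VanishesAbove Q d)
    (hQp : ∀ i, Module.Projective R (Q.X i)) (hPb : DRing.VanishesAbove P e)
    (hPf : DRing.TermwiseFlat P) (α : DRing.toD Q ⟶ DRing.toD P) (hα : Near m α) {q : ℤ}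
    (hq : m < q) :
    Module.Flat R (Coker Q (q - 1) q) ↔ Module.Flat R (Coker P (q - 1) q) := by
  obtain ⟨g, hg⟩ := Groth.DAlg.exists_map_of_projective (E := P) hQd hQp α
  have hQf : ∀ i, Module.Flat R (Q.X i) := fun i => haveI := hQp i; inferInstance
  have : ∀ i, Module.Flat R (Q.X i) := hQf
  have : ∀ i, Module.Flat R (P.X i) := hPf
  let C := CochainComplex.mappingCone g
  have : ∀ i, Module.Flat R (C.X i) := Groth.DAlg.flat_cone_X g hQf hPf
  have hCb : DRing.VanishesAbove C (max d e) := fun i hi =>
    (CochainComplex.mappingCone.isZero_X_iff g i).2 ⟨hQd _ (by omega), hPb i (by omega)⟩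
  have hnear : Near m (DerivedCategory.Q.map g) := by rw [hg]; exact hα
  have hB := PCoh.below_of_near _ (DerivedCategory.mappingCone_triangle_distinguished g) hnear
  have hC : ∀ p, m ≤ p → IsZero (C.homology p) := fun p hp =>
    (hB p hp).of_iso ((DerivedCategory.homologyFunctorFactors _ p).app C).symm
  have hiso : ∀ M : ModuleCat.{u} R, IsIso ((tfunMap g q).app M) := fun M => by
    let F := tensorRight M
    let g' := (F.mapHomologicalComplex up).map g
    have hb : Below m (DRing.toD (CochainComplex.mappingCone g')) := fun i hi => by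
      have hz : IsZero ((DRing.tensorCx C M).homology i) := by
        rw [← exactAt_iff_isZero_homology, exactAt_iff' _ (i - 1) i (i + 1) (by simp) (by simp),
          ShortComplex.moduleCat_exact_iff]
        exact fun x hx => Groth.DAlg.exact_rTensor_of_acyclicAbove C (j := i) hCb
          (fun p hp => hC p (by omega)) M x hx
      exact (hz.of_iso ((homologyFunctor _ _ i).mapIso
        (CochainComplex.mappingCone.mapHomologicalComplexIso g F)).symm).of_iso
        ((DerivedCategory.homologyFunctorFactors _ _).app _)
    have hn : Near m (DerivedCategory.Q.map g') :=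
      PCoh.near_of_below _ (DerivedCategory.mappingCone_triangle_distinguished g') hb
    exact (NatIso.isIso_map_iff (DerivedCategory.homologyFunctorFactors _ q) g').1 (hn.1 q hq)
  have := NatIso.isIso_of_isIso_app (tfunMap g q)
  let i := asIso (tfunMap g q)
  rw [← Groth.FlatCxBase.preservesMono_iff_flat Q (Groth.FlatCxBase.cochain_prev q)
      (Groth.FlatCxBase.cochain_next q),
    ← Groth.FlatCxBase.preservesMono_iff_flat P (Groth.FlatCxBase.cochain_prev q)
      (Groth.FlatCxBase.cochain_next q)]
  exact ⟨fun _ => Functor.preservesMonomorphisms.of_iso i,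
    fun _ => Functor.preservesMonomorphisms.of_iso i.symm⟩

/-- flatness is unchanged along a bijective ring map -/
theorem flat_extendScalars_iff {S : Type u} [CommRing S] (φ : R →+* S) (hφ : Function.Bijective φ)
    (N : ModuleCat.{u} R) :
    Module.Flat S ((ModuleCat.extendScalars φ).obj N) ↔ Module.Flat R N := by
  refine ⟨fun h => ?_, KFlat.flat_extendScalars φ N⟩
  let e := RingEquiv.ofBijective φ hφ
  have h1 := KFlat.flat_extendScalars e.symm.toRingHom _ h
  let i : (ModuleCat.extendScalars e.symm.toRingHom).obj ((ModuleCat.extendScalars φ).obj N) ≅ N :=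
    (ModuleCat.extendScalarsComp φ e.symm.toRingHom).symm.app N ≪≫
      eqToIso (by
        congr
        exact RingHom.ext fun r => e.symm_apply_apply r) ≪≫
      (ModuleCat.extendScalarsId R).app N
  exact Module.Flat.of_linearEquiv i.toLinearEquiv.symm

end ring

variable {X U : Scheme.{u}}

/-- the cokernel of the `(q-1)`-st differential is flat at `x` -/
def Good (P : CochainComplex X.Modules ℤ) (x : X) (q : ℤ) : Prop :=
  Module.Flat (X.presheaf.stalk x) (Coker ((stkCx x).obj P) (q - 1) q)

lemma good_iff_stk (P : CochainComplex X.Modules ℤ) (x : X) (q : ℤ) :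
    Good P x q ↔ Module.Flat (X.presheaf.stalk x) ((stk x).obj (cokernel (P.d (q - 1) q))) :=
  Module.Flat.equiv_iff (PreservesCokernel.iso (stk x) _ ≪≫
    ModuleCat.cokernelIsoRangeQuotient _).toLinearEquiv.symm

lemma good_rc (j : U ⟶ X) [IsOpenImmersion j] (P : CochainComplex X.Modules ℤ) (v : U) (q : ℤ) :
    Good ((Rc j).obj P) v q ↔ Good P (j v) q := by
  rw [good_iff_stk, good_iff_stk]
  let e' : Scheme.Modules.restrictFunctor j ⋙ stk v ≅
      stk (j v) ⋙ ModuleCat.extendScalars.{u, u, u} (j.stalkMap v).hom :=
    Functor.isoWhiskerRight (Scheme.Modules.restrictFunctorIsoPullback j) _ ≪≫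
      KFlat.pullStkIso j v
  let i : (stk v).obj (cokernel (((Rc j).obj P).d (q - 1) q)) ≅
      (ModuleCat.extendScalars.{u, u, u} (j.stalkMap v).hom).obj
        ((stk (j v)).obj (cokernel (P.d (q - 1) q))) :=
    (stk v).mapIso (PreservesCokernel.iso (Scheme.Modules.restrictFunctor j) _).symm ≪≫
      e'.app _
  refine Iff.trans (Module.Flat.equiv_iff i.toLinearEquiv) ?_
  exact flat_extendScalars_iff _ (ConcreteCategory.bijective_of_isIso (j.stalkMap v)) _

end Groth.DerivedCoh.ExactHom
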