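import Groth.Agent.DerivedCoh.StalkAmp.QCohTest

/-!
Morphisms of modules over a local ring of a scheme are stalks of morphisms of quasi-coherent modules.
-/

universe u

open CategoryTheory CategoryTheory.Limits AlgebraicGeometry Opposite
open Groth.DerivedCoh.KFlat (stk)

namespace Groth.DerivedCoh.ExactHom

variable {X : Scheme.{u}} {U : X.Opens} (hU : IsAffineOpen U) {x : X} (hx : x ∈ U)

/-- a stalk module as a module on the sections -/
noncomputable abbrev resN (N : ModuleCat.{u} (X.presheaf.stalk x)) : ModuleCat.{u} Γ(X, U) :=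
  (ModuleCat.restrictScalars (X.presheaf.germ U x hx).hom).obj N

/-- pushforward of the module associated to a stalk module -/
noncomputable abbrev qPush (N : ModuleCat.{u} (X.presheaf.stalk x)) : X.Modules :=
  (Scheme.Modules.pushforward hU.fromSpec).obj (tilde (resN hx N))

/-- its sections over the affine open -/
noncomputable def topVal (N : ModuleCat.{u} (X.presheaf.stalk x)) :
    Γ(qPush hU hx N, U) ≃+ resN hx N :=
  ((tilde (resN hx N)).presheaf.mapIso
      (eqToIso hU.fromSpec_preimage_self.symm).op).addCommGroupIsoToAddEquiv.trans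
    (tilde.isoTop (resN hx N)).toLinearEquiv.symm.toAddEquiv

lemma topVal_smul (N : ModuleCat.{u} (X.presheaf.stalk x)) (r : Γ(X, U))
    (m : Γ(qPush hU hx N, U)) : topVal hU hx N (r • m) = r • topVal hU hx N m := by
  let e₀ : Γ(qPush hU hx N, U) ≃+ Γ(tilde (resN hx N), ⊤) :=
    ((tilde (resN hx N)).presheaf.mapIso
      (eqToIso hU.fromSpec_preimage_self.symm).op).addCommGroupIsoToAddEquiv
  have h1 : e₀ (r • m) = (Scheme.ΓSpecIso Γ(X, U)).inv r • e₀ m := by
    change (tilde (resN hx N)).presheaf.map (eqToHom hU.fromSpec_preimage_self.symm).op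
      (hU.fromSpec.app U r • _) = _
    rw [Scheme.Modules.map_smul]
    congr 1
    rw [← CommRingCat.comp_apply]
    change (hU.fromSpec.app U ≫ _) r = _
    rw [hU.fromSpec_app_self, Category.assoc, ← Functor.map_comp, ← op_comp, eqToHom_trans,
      eqToHom_refl, op_id, CategoryTheory.Functor.map_id, Category.comp_id]
  change (tilde.isoTop (resN hx N)).toLinearEquiv.symm (e₀ (r • m)) =
    r • (tilde.isoTop (resN hx N)).toLinearEquiv.symm (e₀ m)
  rw [h1]
  exact (tilde.isoTop (resN hx N)).toLinearEquiv.symm.map_smul r _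

include hU in
lemma qPush_isQuasicoherent [QuasiSeparatedSpace X] (N : ModuleCat.{u} (X.presheaf.stalk x)) :
    (qPush hU hx N).IsQuasicoherent :=
  Groth.QCohMod.isQCoh_pushforward (M := tilde (resN hx N)) hU.fromSpec

lemma isUnit_germ (a : (hU.primeIdealOf ⟨x, hx⟩).asIdeal.primeCompl) :
    IsUnit (X.presheaf.germ U x hx a.1) :=
  (Scheme.mem_basicOpen X a.1 x hx).mp
    ((Groth.QCohMod.mem_basicOpen_iff_notMem_primeIdealOf hU a.1 x hx).mpr a.2)

/-- the sections map to their values -/
noncomputable def topValₗ (N : ModuleCat.{u} (X.presheaf.stalk x)) :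
    Γ(qPush hU hx N, U) →ₗ[Γ(X, U)] resN hx N :=
  { (topVal hU hx N).toAddMonoidHom with map_smul' := topVal_smul hU hx N }

/-- the stalk of `qPush` is the module itself, compatibly with the values of sections -/
theorem exists_stkIso [QuasiSeparatedSpace X] (N : ModuleCat.{u} (X.presheaf.stalk x)) :
    ∃ Ψ : (stk x).obj (qPush hU hx N) ≅ N, ∀ s : Γ(qPush hU hx N, U),
      Ψ.hom (Groth.QCohMod.germ (qPush hU hx N) x hx s) = (topVal hU hx N s : N) := by
  let φ : Γ(X, U) →+* X.presheaf.stalk x := (X.presheaf.germ U x hx).hom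
  let G := qPush hU hx N
  have := qPush_isQuasicoherent hU hx N
  letI := Groth.QCohMod.stalkModule G x hx
  let S := (hU.primeIdealOf ⟨x, hx⟩).asIdeal.primeCompl
  have := Groth.QCohMod.isLocalizedModule_germ G hU x hx
  have hunit : ∀ a : S, IsUnit (φ a.1) := isUnit_germ hU hx
  let g := topValₗ hU hx N
  have : IsLocalizedModule S g := by
    refine ⟨fun a => ?_, fun y => ?_, fun {m₁ m₂} h => ⟨1, ?_⟩⟩
    · rw [Module.End.isUnit_iff]
      have hb : Function.Bijective fun y : N => φ a.1 • y := (hunit a).smul_bijective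
      exact hb
    · exact ⟨⟨(topVal hU hx N).symm y, 1⟩,
        (one_smul _ _).trans ((topVal hU hx N).apply_symm_apply y).symm⟩
    · rw [one_smul, one_smul]
      exact (topVal hU hx N).injective h
  let ψ := IsLocalizedModule.linearEquiv S (Groth.QCohMod.germₗ G x hx) g
  have hψ : ∀ (c : X.presheaf.stalk x) (t : G.presheaf.stalk x),
      ψ (c • t) = (show N from c • (show N from ψ t)) := fun c t => by
    letI : Algebra Γ(X, U) (X.presheaf.stalk x) := φ.toAlgebra
    have : IsLocalization S (X.presheaf.stalk x) := hU.isLocalization_stalk ⟨x, hx⟩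
    obtain ⟨⟨r, s⟩, hrs⟩ := IsLocalization.surj S c
    have hb : Function.Bijective fun y : N => φ (s : Γ(X, U)) • y := (hunit s).smul_bijective
    refine hb.1 ?_
    have h1 : (show N from ψ ((s : Γ(X, U)) • (c • t))) = φ s • (show N from ψ (c • t)) :=
      ψ.map_smul (s : Γ(X, U)) (c • t)
    have h2 : (show N from ψ (r • t)) = φ r • (show N from ψ t) := ψ.map_smul r t
    have h3 : (s : Γ(X, U)) • (c • t) = r • t := by
      change φ s • (c • t) = φ r • t
      rw [smul_smul, mul_comm]
      exact congrArg (· • t) hrs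
    have hrs' : φ s * c = φ r := (mul_comm _ _).trans hrs
    change φ s • (show N from ψ (c • t)) = φ s • (c • (show N from ψ t))
    rw [← h1, h3, h2, smul_smul, hrs']
  let Ψ : G.presheaf.stalk x ≃ₗ[X.presheaf.stalk x] N :=
    { toFun := fun t => ψ t
      invFun := fun y => ψ.symm y
      map_add' := map_add ψ
      map_smul' := hψ
      left_inv := ψ.symm_apply_apply
      right_inv := ψ.apply_symm_apply }
  exact ⟨LinearEquiv.toModuleIso (X₁ := ((stk x).obj G : ModuleCat _)) Ψ,
    fun s => IsLocalizedModule.linearEquiv_apply S (Groth.QCohMod.germₗ G x hx) g s⟩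

lemma topVal_natural {N N' : ModuleCat.{u} (X.presheaf.stalk x)} (g : N ⟶ N')
    (s : Γ(qPush hU hx N, U)) :
    (topVal hU hx N' (((Scheme.Modules.pushforward hU.fromSpec).map
      (tilde.map ((ModuleCat.restrictScalars (X.presheaf.germ U x hx).hom).map g))).app U s) : N') =
      g (topVal hU hx N s : N) := by
  let g₀ := (ModuleCat.restrictScalars (X.presheaf.germ U x hx).hom).map g
  let t : Γ(tilde (resN hx N), ⊤) := (tilde (resN hx N)).presheaf.map
    (eqToHom hU.fromSpec_preimage_self.symm).op s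
  have h1 : (tilde (resN hx N')).presheaf.map (eqToHom hU.fromSpec_preimage_self.symm).op
      ((tilde.map g₀).app (hU.fromSpec ⁻¹ᵁ U) s) = (tilde.map g₀).app ⊤ t :=
    (ConcreteCategory.congr_hom ((Scheme.Modules.Hom.mapPresheaf (tilde.map g₀)).naturality
      (eqToHom hU.fromSpec_preimage_self.symm).op) s).symm
  change (tilde.isoTop (resN hx N')).inv ((tilde (resN hx N')).presheaf.map
      (eqToHom hU.fromSpec_preimage_self.symm).op
        ((tilde.map g₀).app (hU.fromSpec ⁻¹ᵁ U) s)) = g₀ ((tilde.isoTop (resN hx N)).inv t)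
  rw [h1]
  refine Eq.trans ?_ (ConcreteCategory.congr_hom
    (tilde.toTildeΓNatIso.inv.naturality g₀) t)
  rfl

/-- every morphism of stalk modules comes from quasi-coherent modules -/
theorem exists_qcoh_arrow [QuasiSeparatedSpace X] (x : X)
    {N N' : ModuleCat.{u} (X.presheaf.stalk x)} (g : N ⟶ N') :
    ∃ (M M' : X.Modules) (h : M ⟶ M') (i : (stk x).obj M ≅ N) (i' : (stk x).obj M' ≅ N'),
      M.IsQuasicoherent ∧ M'.IsQuasicoherent ∧ (stk x).map h ≫ i'.hom = i.hom ≫ g := by
  obtain ⟨U, hU, hx⟩ := Groth.QCohMod.exists_affine_mem x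
  obtain ⟨i, hi⟩ := exists_stkIso hU hx N
  obtain ⟨i', hi'⟩ := exists_stkIso hU hx N'
  let h := (Scheme.Modules.pushforward hU.fromSpec).map
    (tilde.map ((ModuleCat.restrictScalars (X.presheaf.germ U x hx).hom).map g))
  refine ⟨_, _, h, i, i', qPush_isQuasicoherent hU hx N, qPush_isQuasicoherent hU hx N', ?_⟩
  have hgerm : ∀ m : Γ(qPush hU hx N, U),
      i'.hom ((stk x).map h (Groth.QCohMod.germ _ x hx m)) =
        g (i.hom (Groth.QCohMod.germ _ x hx m)) := fun m =>
    (congrArg i'.hom (DerSch.stalkFunctor_map_germ x h U hx m)).trans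
      ((hi' _).trans ((topVal_natural hU hx g m).trans (congrArg g (hi m).symm)))
  refine ModuleCat.hom_ext (LinearMap.ext fun t => ?_)
  have := qPush_isQuasicoherent hU hx N
  letI := Groth.QCohMod.stalkModule (qPush hU hx N) x hx
  have := Groth.QCohMod.isLocalizedModule_germ (qPush hU hx N) hU x hx
  obtain ⟨⟨m, a⟩, hma⟩ := IsLocalizedModule.surj (hU.primeIdealOf ⟨x, hx⟩).asIdeal.primeCompl
    (Groth.QCohMod.germₗ (qPush hU hx N) x hx) t
  have ha := isUnit_germ hU hx a
  refine (ha.smul_bijective (β := N')).1 ?_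
  change X.presheaf.germ U x hx a.1 • i'.hom ((stk x).map h t) =
    X.presheaf.germ U x hx a.1 • g (i.hom t)
  rw [← map_smul i'.hom.hom, ← map_smul ((stk x).map h).hom, ← map_smul g.hom,
    ← map_smul i.hom.hom]
  have hma' : X.presheaf.germ U x hx a.1 • (show ((stk x).obj (qPush hU hx N)) from t) =
      Groth.QCohMod.germ (qPush hU hx N) x hx m := hma
  rw [hma']
  exact hgerm m

end Groth.DerivedCoh.ExactHom
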