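import Groth.Agent.DerivedCoh.ExactHom.Functor
import Groth.Agent.DerivedCoh.ExactHom.Coker
import Groth.Agent.DerivedCoh.ExactHom.QCohArrow
import Groth.Agent.QCohMod.QCohCatAbelian

/-!
Exactness of `M ↦ H^p(M ⊗^L F)` and flatness of the cokernels of the differentials on the stalks.
-/

universe u

open CategoryTheory CategoryTheory.Limits AlgebraicGeometry MonoidalCategory HomologicalComplex
open Groth.FlatCxBase (Coker cochain_prev cochain_next)
open Groth.DerivedCoh.KFlat (stk T IsKFlat)
open Groth.DerivedCoh.StalkAmp (stkCx)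

namespace Groth.DerivedCoh.ExactHom

attribute [local instance] HasDerivedCategory.standard

variable {X : Scheme.{u}}

local notation "up" => ComplexShape.up ℤ

instance additive_tmP (P : CochainComplex X.Modules ℤ) : (tmP P).Additive where
  map_add {M N f g} := HomologicalComplex.hom_ext _ _ fun q => by
    change ((T X).map (f + g)).app (P.X q) = _
    rw [Functor.map_add]; rfl

variable {P : CochainComplex X.Modules ℤ}

lemma exact_homP (hf : ∀ q, FlatMod.IsFlat (P.X q)) (p : ℤ) (S : ShortComplex X.Modules)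
    (hS : S.ShortExact) : (S.map (homP P p)).Exact := by
  refine ((KFlat.stk_jointly (X := X)).exact_iff _).2 fun x => ?_
  let C := (stkCx x).obj P
  have : ∀ i, Module.Flat (X.presheaf.stalk x) (C.X i) := fun i => hf i x
  have h1 : ((S.map (stk x)).map (CohIII.TFun C p)).Exact :=
    Groth.FlatCxBase.isHalfExact_TFun (j := p) C (cochain_prev p) (cochain_next p) (S.map (stk x))
      (hS.map_of_exact (stk x))
  let e := homPStk P p x
  let j : (S.map (stk x)).map (CohIII.TFun C p) ≅ (S.map (homP P p)).map (stk x) :=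
    ShortComplex.isoMk (e.symm.app S.X₁) (e.symm.app S.X₂) (e.symm.app S.X₃)
      (e.inv.naturality S.f).symm (e.inv.naturality S.g).symm
  exact ShortComplex.exact_of_iso j h1

/-- flat cokernels at every point give left exactness -/
theorem preservesFiniteLimits_homP (hf : ∀ q, FlatMod.IsFlat (P.X q)) {p : ℤ}
    (h : ∀ x, Good P x p) : PreservesFiniteLimits (homP P p) := by
  rw [Functor.preservesFiniteLimits_iff_forall_exact_map_and_mono]
  intro S hS
  refine ⟨exact_homP hf p S hS, (KFlat.stk_jointly (X := X)).jointlyReflectMonomorphisms.mono_iff _ |>.2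
    fun x => ?_⟩
  have : ∀ i, Module.Flat (X.presheaf.stalk x) (((stkCx x).obj P).X i) := fun i => hf i x
  have := (Groth.FlatCxBase.preservesMono_iff_flat ((stkCx x).obj P) (cochain_prev p)
    (cochain_next p)).2 (h x)
  have := hS.mono_f
  exact ((MorphismProperty.monomorphisms _).arrow_mk_iso_iff
    (Arrow.isoOfNatIso (homPStk P p x) (Arrow.mk S.f))).2
      (inferInstanceAs (Mono ((stk x ⋙ CohIII.TFun ((stkCx x).obj P) p).map S.f)))

lemma good_succ (x : X) (p : ℤ) :
    Good P x (p + 1) ↔ Module.Flat (X.presheaf.stalk x) (Coker ((stkCx x).obj P) p (p + 1)) := by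
  have t : ∀ a, a = p → (Module.Flat (X.presheaf.stalk x) (Coker ((stkCx x).obj P) a (p + 1)) ↔
      Module.Flat (X.presheaf.stalk x) (Coker ((stkCx x).obj P) p (p + 1))) := by
    rintro _ rfl; rfl
  exact t _ (by omega)

/-- flat cokernels at every point in the next degree give right exactness -/
theorem preservesFiniteColimits_homP (hf : ∀ q, FlatMod.IsFlat (P.X q)) {p : ℤ}
    (h : ∀ x, Good P x (p + 1)) : PreservesFiniteColimits (homP P p) := by
  rw [Functor.preservesFiniteColimits_iff_forall_exact_map_and_epi]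
  intro S hS
  refine ⟨exact_homP hf p S hS, (KFlat.stk_jointly (X := X)).jointlyReflectEpimorphisms.epi_iff _ |>.2
    fun x => ?_⟩
  have : ∀ i, Module.Flat (X.presheaf.stalk x) (((stkCx x).obj P).X i) := fun i => hf i x
  have := (Groth.FlatCxBase.preservesEpi_iff_flat ((stkCx x).obj P) (cochain_prev p)
    (cochain_next p)).2 ((good_succ x p).1 (h x))
  have := hS.epi_g
  exact ((MorphismProperty.epimorphisms _).arrow_mk_iso_iff
    (Arrow.isoOfNatIso (homPStk P p x) (Arrow.mk S.g))).2
      (inferInstanceAs (Epi ((stk x ⋙ CohIII.TFun ((stkCx x).obj P) p).map S.g)))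

/-- enough morphisms satisfying `C` to test the stalk at `x` -/
def TestAt (C : ObjectProperty X.Modules) (x : X) : Prop :=
  ∀ ⦃N N' : ModuleCat.{u} (X.presheaf.stalk x)⦄ (g : N ⟶ N'),
    ∃ (M M' : X.Modules) (h : M ⟶ M') (i : (stk x).obj M ≅ N) (i' : (stk x).obj M' ≅ N'),
      C M ∧ C M' ∧ C (Abelian.image h) ∧ (stk x).map h ≫ i'.hom = i.hom ≫ g

lemma testAt_top (x : X) : TestAt (fun _ : X.Modules => True) x := fun N N' g =>
  ⟨_, _, (KFlat.skyF x).map g, (KFlat.skyStkNatIso x).app N, (KFlat.skyStkNatIso x).app N',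
    trivial, trivial, trivial, (KFlat.skyStkNatIso x).hom.naturality g⟩

lemma testAt_qcoh [QuasiSeparatedSpace X] (x : X) : TestAt (QCohCat.isQCoh X) x := fun N N' g => by
  obtain ⟨M, M', h, i, i', hM, hM', e⟩ := exists_qcoh_arrow x g
  exact ⟨M, M', h, i, i', hM, hM',
    @Groth.QCohMod.isQCoh_kernel X _ _ hM'
      (@Groth.QCohMod.isQCoh_cokernel X _ _ hM hM' h) (cokernel.π h), e⟩

/-- left exactness on enough modules makes the cokernel flat -/
theorem good_of_mono (hf : ∀ q, FlatMod.IsFlat (P.X q)) {p : ℤ} {C : ObjectProperty X.Modules}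
    {x : X} (hC : TestAt C x)
    (h : ∀ ⦃M N : X.Modules⦄ (f : M ⟶ N), C M → C N → Mono f → Mono ((homP P p).map f)) :
    Good P x p := by
  have : ∀ i, Module.Flat (X.presheaf.stalk x) (((stkCx x).obj P).X i) := fun i => hf i x
  let F := CohIII.TFun ((stkCx x).obj P) p
  refine (Groth.FlatCxBase.preservesMono_iff_flat ((stkCx x).obj P) (cochain_prev p)
    (cochain_next p)).1 ⟨fun {N N'} g _ => ?_⟩
  obtain ⟨M, M', φ, i, i', -, hM', hI, e⟩ := hC g
  have hg : g = i.inv ≫ (stk x).map φ ≫ i'.hom := by rw [e, Iso.inv_hom_id_assoc]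
  have hφ : (stk x).map φ = (stk x).map (Abelian.factorThruImage φ) ≫ (stk x).map (Abelian.image.ι φ) := by
    rw [← Functor.map_comp, Abelian.image.fac]
  have : Mono ((stk x).map φ) := by
    rw [show (stk x).map φ = i.hom ≫ g ≫ i'.inv by rw [← Category.assoc, ← e]; simp]
    infer_instance
  have : Mono ((stk x).map (Abelian.factorThruImage φ) ≫ (stk x).map (Abelian.image.ι φ)) := hφ ▸ this
  have := mono_of_mono ((stk x).map (Abelian.factorThruImage φ)) ((stk x).map (Abelian.image.ι φ))
  have := isIso_of_mono_of_epi ((stk x).map (Abelian.factorThruImage φ))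
  have : Mono ((homP P p).map (Abelian.image.ι φ)) := h _ hI hM' inferInstance
  have : Mono (F.map ((stk x).map (Abelian.image.ι φ))) :=
    ((MorphismProperty.monomorphisms _).arrow_mk_iso_iff
      (Arrow.isoOfNatIso (homPStk P p x) (Arrow.mk (Abelian.image.ι φ)))).1
        (inferInstanceAs (Mono ((stk x).map ((homP P p).map (Abelian.image.ι φ)))))
  rw [hg, hφ]
  simp only [Functor.map_comp]
  infer_instance

/-- right exactness on enough modules makes the next cokernel flat -/
theorem good_succ_of_epi (hf : ∀ q, FlatMod.IsFlat (P.X q)) {p : ℤ} {C : ObjectProperty X.Modules}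
    {x : X} (hC : TestAt C x)
    (h : ∀ ⦃M N : X.Modules⦄ (f : M ⟶ N), C M → C N → Epi f → Epi ((homP P p).map f)) :
    Good P x (p + 1) := by
  have : ∀ i, Module.Flat (X.presheaf.stalk x) (((stkCx x).obj P).X i) := fun i => hf i x
  let F := CohIII.TFun ((stkCx x).obj P) p
  refine (good_succ x p).2 ((Groth.FlatCxBase.preservesEpi_iff_flat ((stkCx x).obj P) (cochain_prev p)
    (cochain_next p)).1 ⟨fun {N N'} g _ => ?_⟩)
  obtain ⟨M, M', φ, i, i', hM, -, hI, e⟩ := hC g
  have hg : g = i.inv ≫ (stk x).map φ ≫ i'.hom := by rw [e, Iso.inv_hom_id_assoc]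
  have hφ : (stk x).map φ = (stk x).map (Abelian.factorThruImage φ) ≫ (stk x).map (Abelian.image.ι φ) := by
    rw [← Functor.map_comp, Abelian.image.fac]
  have : Epi ((stk x).map φ) := by
    rw [show (stk x).map φ = i.hom ≫ g ≫ i'.inv by rw [← Category.assoc, ← e]; simp]
    infer_instance
  have : Epi ((stk x).map (Abelian.factorThruImage φ) ≫ (stk x).map (Abelian.image.ι φ)) := hφ ▸ this
  have := epi_of_epi ((stk x).map (Abelian.factorThruImage φ)) ((stk x).map (Abelian.image.ι φ))
  have := isIso_of_mono_of_epi ((stk x).map (Abelian.image.ι φ))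
  have : Epi ((homP P p).map (Abelian.factorThruImage φ)) := h _ hM hI inferInstance
  have : Epi (F.map ((stk x).map (Abelian.factorThruImage φ))) :=
    ((MorphismProperty.epimorphisms _).arrow_mk_iso_iff
      (Arrow.isoOfNatIso (homPStk P p x) (Arrow.mk (Abelian.factorThruImage φ)))).1
        (inferInstanceAs (Epi ((stk x).map ((homP P p).map (Abelian.factorThruImage φ)))))
  rw [hg, hφ]
  simp only [Functor.map_comp]
  infer_instance

end Groth.DerivedCoh.ExactHom
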