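import Groth.Agent.DerivedCoh.KFlat.LTensorGen
import Groth.Agent.DerivedCoh.KFlat.Pointwise
import Groth.Agent.DerivedCoh.KFlat.StalkCriterion
import Groth.Agent.DerivedCoh.StalkAmp.Basic
import Groth.Agent.FlatCxBase.Watts

/-!
The functors `M ↦ H^p(M ⊗^L F)` and their stalks.
-/

universe u

open CategoryTheory CategoryTheory.Limits AlgebraicGeometry MonoidalCategory HomologicalComplex

namespace Groth.DerivedCoh.ExactHom

open Groth.DerivedCoh.KFlat (stk T IsKFlat totL totR tot Bi)
open Groth.DerivedCoh.StalkAmp (stkCx)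

attribute [local instance] HasDerivedCategory.standard

variable {X : Scheme.{u}}

local notation "up" => ComplexShape.up ℤ

/-- `M ↦ M ⊗ P` for a complex `P` -/
noncomputable def tmP (P : CochainComplex X.Modules ℤ) : X.Modules ⥤ CochainComplex X.Modules ℤ where
  obj M := (((T X).obj M).mapHomologicalComplex up).obj P
  map f := (NatTrans.mapHomologicalComplex ((T X).map f) up).app P
  map_id M := HomologicalComplex.hom_ext _ _ fun q => by
    change ((T X).map (𝟙 M)).app (P.X q) = 𝟙 _
    rw [CategoryTheory.Functor.map_id]; rfl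
  map_comp f g := HomologicalComplex.hom_ext _ _ fun q => by
    change ((T X).map (f ≫ g)).app (P.X q) = _
    rw [Functor.map_comp]; rfl

/-- the bicomplex of a module in degree zero and a complex, naturally -/
noncomputable def singleBiIso (P : CochainComplex X.Modules ℤ) :
    HomologicalComplex.single X.Modules up 0 ⋙ (Bi (T X)).flip.obj P ≅
      tmP P ⋙ KFlat.Cover.biSingle :=
  NatIso.ofComponents (fun M => KFlat.biSingleTensorIso (T X) M P) fun {M N} f => by
    refine HomologicalComplex.to_single_hom_ext ?_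
    refine HomologicalComplex.hom_ext _ _ fun q => ?_
    simp only [KFlat.biSingleTensorIso, tmP, Functor.comp_map, Functor.flip_obj_map, comp_f,
      mkHomToSingle_f, single_map_f_self, Category.assoc]
    simp
    have e : ((T X).map (singleObjXSelf up 0 N).inv).app (P.X q) ≫
        ((T X).map (singleObjXSelf up 0 N).hom).app (P.X q) = 𝟙 _ := by
      rw [← NatTrans.comp_app, ← Functor.map_comp, Iso.inv_hom_id, CategoryTheory.Functor.map_id]
      rfl
    simp only [single_map_f_self, Functor.map_comp, NatTrans.comp_app]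
    refine (Category.assoc _ _ _).trans (congrArg (_ ≫ ·) ?_)
    refine (Category.assoc _ _ _).trans (congrArg (_ ≫ ·) ?_)
    exact (Category.assoc _ _ _).symm.trans ((congrArg (· ≫ _) e).trans (Category.id_comp _))

/-- a module in degree zero tensored with a complex, naturally -/
noncomputable def singleTotIso (P : CochainComplex X.Modules ℤ) :
    HomologicalComplex.single X.Modules up 0 ⋙ totL (T X) P ≅ tmP P :=
  Functor.isoWhiskerLeft _ (KFlat.totLIso (T X) P) ≪≫ (Functor.associator _ _ _).symm ≪≫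
    Functor.isoWhiskerRight (singleBiIso P) (HomologicalComplex₂.totalFunctor X.Modules up up up) ≪≫
    Functor.associator _ _ _ ≪≫ Functor.isoWhiskerLeft (tmP P) KFlat.Cover.totalSingleIso ≪≫
    Functor.rightUnitor _

/-- stalks of `M ⊗ P`, naturally -/
noncomputable def tmStk (P : CochainComplex X.Modules ℤ) (x : X) (M : X.Modules) :
    (stkCx x).obj ((tmP P).obj M) ≅ CohIII.tensorObj ((stkCx x).obj P) ((stk x).obj M) :=
  HomologicalComplex.Hom.isoOfComponents
    (fun q => (KFlat.stkTensorIso M (P.X q) x).symm ≪≫ β_ _ _)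
    fun q q' _ => by
      change ((KFlat.stkTensorIso M (P.X q) x).inv ≫ (β_ _ _).hom) ≫ (stk x).map (P.d q q') ▷ _ =
        (stk x).map (((T X).obj M).map (P.d q q')) ≫
          (KFlat.stkTensorIso M (P.X q') x).inv ≫ (β_ _ _).hom
      rw [Category.assoc, ← BraidedCategory.braiding_naturality_right, ← Category.assoc,
        ← Category.assoc]
      congr 1
      rw [Iso.inv_comp_eq, ← Category.assoc, Iso.eq_comp_inv]
      exact KFlat.stkTensorIso_right _ _ x

lemma tmStk_naturality (P : CochainComplex X.Modules ℤ) (x : X) {M N : X.Modules} (f : M ⟶ N) :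
    (stkCx x).map ((tmP P).map f) ≫ (tmStk P x N).hom =
      (tmStk P x M).hom ≫ CohIII.tensorMap ((stkCx x).obj P) ((stk x).map f) := by
  refine HomologicalComplex.hom_ext _ _ fun q => ?_
  change (stk x).map (((T X).map f).app (P.X q)) ≫
      (KFlat.stkTensorIso N (P.X q) x).inv ≫ (β_ _ _).hom =
    ((KFlat.stkTensorIso M (P.X q) x).inv ≫ (β_ _ _).hom) ≫ _ ◁ (stk x).map f
  rw [Category.assoc, ← BraidedCategory.braiding_naturality_left, ← Category.assoc, ← Category.assoc]
  congr 1
  rw [eq_comm, Iso.inv_comp_eq, ← Category.assoc, Iso.eq_comp_inv]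
  exact KFlat.stkTensorIso_left _ _ x

/-- `M ↦ H^p(M ⊗ P)` -/
noncomputable abbrev homP (P : CochainComplex X.Modules ℤ) (p : ℤ) : X.Modules ⥤ X.Modules :=
  tmP P ⋙ HomologicalComplex.homologyFunctor X.Modules up p

/-- stalks of `M ↦ H^p(M ⊗ P)` -/
noncomputable def homPStk (P : CochainComplex X.Modules ℤ) (p : ℤ) (x : X) :
    homP P p ⋙ stk x ≅ stk x ⋙ CohIII.TFun ((stkCx x).obj P) p :=
  NatIso.ofComponents
    (fun M => ((((tmP P).obj M).sc p).mapHomologyIso (stk x)).symm ≪≫
      (HomologicalComplex.homologyFunctor _ up p).mapIso (tmStk P x M))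
    fun {M N} f => by
      have h := (ShortComplex.mapHomologyIso_hom_naturality
        (S₁ := ((tmP P).obj M).sc p) (S₂ := ((tmP P).obj N).sc p)
        ((shortComplexFunctor X.Modules up p).map ((tmP P).map f)) (stk x))
      change (stk x).map (homologyMap ((tmP P).map f) p) ≫
          ((((tmP P).obj N).sc p).mapHomologyIso (stk x)).inv ≫ homologyMap (tmStk P x N).hom p =
        ((((tmP P).obj M).sc p).mapHomologyIso (stk x)).inv ≫ homologyMap (tmStk P x M).hom p ≫
          homologyMap (CohIII.tensorMap ((stkCx x).obj P) ((stk x).map f)) p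
      have h1 := ((homologyMap_comp ((stkCx x).map ((tmP P).map f)) (tmStk P x N).hom p).symm.trans
        (congrArg (homologyMap · p) (tmStk_naturality P x f))).trans (homologyMap_comp _ _ p)
      refine Eq.trans ?_ (congrArg (((((tmP P).obj M).sc p).mapHomologyIso (stk x)).inv ≫ ·) h1)
      refine Eq.trans ?_ (Category.assoc _ _ _)
      refine (Category.assoc _ _ _).symm.trans (congrArg (· ≫ homologyMap (tmStk P x N).hom p) ?_)
      refine ((Iso.inv_comp_eq _).2 ?_).symm
      refine Eq.trans ?_ (Category.assoc _ _ _)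
      exact ((Iso.eq_comp_inv _).2 h)

/-- `M ↦ H^p(M ⊗^L F)` -/
noncomputable abbrev homL (F : CochainComplex X.Modules ℤ) [DCoh.HasLTensorCx F] (p : ℤ) :
    X.Modules ⥤ X.Modules :=
  DerivedCategory.singleFunctor X.Modules 0 ⋙ DCoh.LTensorCx F ⋙
    DerivedCategory.homologyFunctor X.Modules p

/-- `- ⊗^L F` through a K-flat complex quasi-isomorphic to `F` -/
theorem nonempty_ltcxQIso (F : CochainComplex X.Modules ℤ) [DCoh.HasLTensorCx F]
    {P : CochainComplex X.Modules ℤ} (hP : IsKFlat (T X) P) (β : P ⟶ F) [QuasiIso β] :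
    Nonempty (DerivedCategory.Q ⋙ DCoh.LTensorCx F ≅ DCoh.tensorCxQ P) := by
  let δ : DCoh.tensorCxQ P ⟶ DCoh.tensorCxQ F :=
    Functor.whiskerRight ((DCoh.tensorCx (X := X)).flip.map β) DerivedCategory.Q
  have : ∀ C, IsIso ((Functor.whiskerLeft (KFlat.flatResolution X) δ).app C) := fun C => by
    have : QuasiIso ((totR (T X) ((KFlat.flatResolution X).obj C)).map β) :=
      KFlat.quasiIso_totR (T X) (KFlat.flatResolution_isKFlat_flip C) β
    exact (DerivedCategory.isIso_Q_map_iff_quasiIso _ _).2 this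
  have := NatIso.isIso_of_isIso_app (Functor.whiskerLeft (KFlat.flatResolution X) δ)
  have : ∀ C, IsIso ((Functor.whiskerRight (KFlat.flatResolutionAug X) (DCoh.tensorCxQ P)).app C) :=
    fun C => KFlat.tensorCxQ_inverts hP _
      ((HomologicalComplex.mem_quasiIso_iff _).2 (KFlat.flatResolution_quasiIso C))
  have := NatIso.isIso_of_isIso_app (Functor.whiskerRight (KFlat.flatResolutionAug X) (DCoh.tensorCxQ P))
  exact ⟨KFlat.ltcxResIso F ≪≫ (asIso (Functor.whiskerLeft (KFlat.flatResolution X) δ)).symm ≪≫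
    asIso (Functor.whiskerRight (KFlat.flatResolutionAug X) (DCoh.tensorCxQ P)) ≪≫
    Functor.leftUnitor _⟩

/-- `M ↦ H^p(M ⊗^L F)` through a K-flat complex quasi-isomorphic to `F` -/
theorem nonempty_homLIso (F : CochainComplex X.Modules ℤ) [DCoh.HasLTensorCx F] (p : ℤ)
    {P : CochainComplex X.Modules ℤ} (hP : IsKFlat (T X) P) (β : P ⟶ F) [QuasiIso β] :
    Nonempty (homL F p ≅ homP P p) := by
  obtain ⟨e⟩ := nonempty_ltcxQIso F hP β
  exact ⟨Functor.isoWhiskerLeft (CochainComplex.singleFunctor X.Modules 0)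
      (Functor.isoWhiskerRight e (DerivedCategory.homologyFunctor X.Modules p) ≪≫
        Functor.associator _ _ _ ≪≫
        Functor.isoWhiskerLeft (totL (T X) P) (DerivedCategory.homologyFunctorFactors X.Modules p)) ≪≫
    (Functor.associator _ _ _).symm ≪≫
    Functor.isoWhiskerRight (singleTotIso P) (HomologicalComplex.homologyFunctor X.Modules up p)⟩

/-- a bounded above flat representative -/
theorem exists_flat_rep (F : CochainComplex X.Modules ℤ) (e : ℤ) [(DCoh.toD X F).IsLE e] :
    ∃ (P : CochainComplex X.Modules ℤ) (β : P ⟶ F), QuasiIso β ∧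
      (∀ q, e < q → IsZero (P.X q)) ∧ (∀ q, FlatMod.IsFlat (P.X q)) ∧ IsKFlat (T X) P := by
  have : F.IsLE e := by
    rw [CochainComplex.isLE_iff]
    exact fun i hi => (KFlat.isZero_hd_toD_iff F i).1 (DerivedCategory.isZero_of_isLE _ e i hi)
  let C' := F.truncLE e
  have h0 : ∀ p, e < p → IsZero (C'.X p) := fun p hp => C'.isZero_of_isStrictlyLE e p hp
  have := (KFlat.schemeCover X).quasiIso_resAug C' e h0
  let P := (KFlat.schemeCover X).res.obj C'
  have hP0 : ∀ p, e < p → IsZero (P.X p) := (KFlat.schemeCover X).res_X_zero C' e h0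
  have hPf : ∀ n, FlatMod.IsFlat (P.X n) := fun n =>
    (KFlat.schemeCover X).res_X_prop FlatMod.IsFlat KFlat.isFlat_coverObj
      (fun _ => KFlat.isFlat_of_isZero)
      (fun e h => Groth.CohTwo.isFlat_of_iso e.symm h) KFlat.isFlat_sigma₀ C' n
  refine ⟨P, (KFlat.schemeCover X).resAug.app C' ≫ F.ιTruncLE e, ?_, hP0, hPf,
    KFlat.isKFlat_of_flat (T X) _ e hP0 fun q => KFlat.flat_of_isFlat (hPf q)⟩
  infer_instance

end Groth.DerivedCoh.ExactHom
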