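import Groth.Agent.DerivedCoh.ExactHom.Chart
import Groth.Agent.LocFree.Basic

/-!
The locus where all cohomology sheaves of a perfect object are finite locally free.
-/

universe u

open CategoryTheory CategoryTheory.Limits AlgebraicGeometry HomologicalComplex
open Groth.DerivedCoh.KFlat (stk T)
open Groth.DerivedCoh.StalkAmp (stkCx)
open Groth.KTheory.Perf (Rd Rc rdQIso)
open Groth.FlatCxBase (Coker)

namespace Groth.DerivedCoh.ExactHom

attribute [local instance] HasDerivedCategory.standard

variable {X U : Scheme.{u}}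

local notation "up" => ComplexShape.up ℤ

/-- finite local freeness on a cover by open immersions -/
theorem isFinLocFree_cover {M : X.Modules}
    (h : ∀ x : X, ∃ (U : Scheme.{u}) (j : U ⟶ X) (_ : IsOpenImmersion j),
      x ∈ Set.range j ∧ FlatMod.IsFinLocFree (M.restrict j)) : FlatMod.IsFinLocFree M := by
  intro x
  obtain ⟨U, j, _, ⟨w, rfl⟩, hfl⟩ := h x
  obtain ⟨W, n, hW, ⟨e⟩⟩ := hfl w
  let l := W.ι ≫ j
  let k := l.isoOpensRange.inv
  obtain ⟨f⟩ := Groth.KTheory.Perf.nonempty_restrict_free k e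
  let i₁ := (Scheme.Modules.restrictFunctorCongr (l.isoOpensRange_inv_comp.symm :
    l.opensRange.ι = k ≫ l)).app M
  exact ⟨l.opensRange, n, ⟨⟨w, hW⟩, rfl⟩, ⟨i₁ ≪≫ (Scheme.Modules.restrictFunctorComp k l).app M ≪≫
    (Scheme.Modules.restrictFunctor k).mapIso ((Scheme.Modules.restrictFunctorComp W.ι j).app M) ≪≫ f⟩⟩

/-- stalks of a restriction -/
noncomputable def restrictStkIso (j : U ⟶ X) [IsOpenImmersion j] (v : U) :
    Scheme.Modules.restrictFunctor j ⋙ stk v ≅
      stk (j v) ⋙ ModuleCat.extendScalars.{u, u, u} (j.stalkMap v).hom :=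
  Functor.isoWhiskerRight (Scheme.Modules.restrictFunctorIsoPullback j) _ ≪≫ KFlat.pullStkIso j v

/-- free finite stalks go up to a restriction -/
lemma free_stalk_restrict (j : U ⟶ X) [IsOpenImmersion j] {M : X.Modules} (v : U)
    (hf : Module.Free (X.presheaf.stalk (j v)) ((stk (j v)).obj M)) :
    Module.Free (U.presheaf.stalk v) ((stk v).obj (M.restrict j)) := by
  let _ := (j.stalkMap v).hom.toAlgebra
  have : Module.Free (U.presheaf.stalk v)
      ((ModuleCat.extendScalars.{u, u, u} (j.stalkMap v).hom).obj ((stk (j v)).obj M)) :=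
    inferInstanceAs (Module.Free (U.presheaf.stalk v)
      (TensorProduct (X.presheaf.stalk (j v)) (U.presheaf.stalk v) ((stk (j v)).obj M)))
  exact Module.Free.of_equiv
    (show (ModuleCat.extendScalars.{u, u, u} (j.stalkMap v).hom).obj ((stk (j v)).obj M) ≃ₗ[U.presheaf.stalk v] _
      from ((restrictStkIso j v).app M).symm.toLinearEquiv)

/-- free finite stalks go down from a finite locally free restriction -/
lemma free_stalk_of_restrict (j : U ⟶ X) [IsOpenImmersion j] {M : X.Modules}
    (h : FlatMod.IsFinLocFree (M.restrict j)) (v : U) :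
    Module.Free (X.presheaf.stalk (j v)) ((stk (j v)).obj M) ∧
      Module.Finite (X.presheaf.stalk (j v)) ((stk (j v)).obj M) := by
  let φ := (j.stalkMap v).hom
  let e := RingEquiv.ofBijective φ (ConcreteCategory.bijective_of_isIso (j.stalkMap v))
  let G := ModuleCat.extendScalars.{u, u, u} e.symm.toRingHom
  let i : G.obj ((ModuleCat.extendScalars.{u, u, u} φ).obj ((stk (j v)).obj M)) ≅ (stk (j v)).obj M :=
    (ModuleCat.extendScalarsComp φ e.symm.toRingHom).symm.app _ ≪≫
      eqToIso (by
        congr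
        exact RingHom.ext fun r => e.symm_apply_apply r) ≪≫
      (ModuleCat.extendScalarsId _).app _
  let k : G.obj ((stk v).obj (M.restrict j)) ≅ (stk (j v)).obj M :=
    G.mapIso ((restrictStkIso j v).app M) ≪≫ i
  have h1 := Groth.PropsBasic.LocFree.free_stalk _ h v
  have h2 := Groth.LocFree.finite_stalk h v
  have h1' : Module.Free (U.presheaf.stalk v) ((stk v).obj (M.restrict j)) := h1
  have h2' : Module.Finite (U.presheaf.stalk v) ((stk v).obj (M.restrict j)) := h2
  let _ := e.symm.toRingHom.toAlgebra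
  have : Module.Free (X.presheaf.stalk (j v)) (G.obj ((stk v).obj (M.restrict j))) :=
    inferInstanceAs (Module.Free (X.presheaf.stalk (j v))
      (TensorProduct (U.presheaf.stalk v) (X.presheaf.stalk (j v)) ((stk v).obj (M.restrict j))))
  have : Module.Finite (X.presheaf.stalk (j v)) (G.obj ((stk v).obj (M.restrict j))) :=
    inferInstanceAs (Module.Finite (X.presheaf.stalk (j v))
      (TensorProduct (U.presheaf.stalk v) (X.presheaf.stalk (j v)) ((stk v).obj (M.restrict j))))
  exact ⟨Module.Free.of_equiv k.toLinearEquiv, Module.Finite.equiv k.toLinearEquiv⟩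

/-- free cohomology on a stalk of a strictly perfect complex makes all the cokernels flat -/
theorem good_of_free_homology {Q : CochainComplex U.Modules ℤ} (hQ : DCoh.IsStrictlyPerfect Q) (v : U)
    (h : ∀ i, Module.Free (U.presheaf.stalk v) ((stk v).obj (Q.homology i))) (q : ℤ) : Good Q v q := by
  obtain ⟨⟨a, b, hab⟩, hfl⟩ := hQ
  let R := U.presheaf.stalk v
  let C := (stkCx v).obj Q
  suffices H : ∀ q, Module.Projective R (Coker C (q - 1) q) from
    @Module.Flat.of_projective _ _ _ _ _ (H q)
  have top : ∀ q, b < q → Module.Projective R (Coker C (q - 1) q) := fun q hq => by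
    have : Subsingleton (C.X q) :=
      ModuleCat.subsingleton_of_isZero ((stk v).map_isZero (hab q (.inr hq)))
    have : Subsingleton (Coker C (q - 1) q) :=
      (Submodule.mkQ_surjective _).subsingleton
    infer_instance
  suffices H : ∀ n : ℕ, ∀ q, b < q + n → Module.Projective R (Coker C (q - 1) q) from
    fun q => H ((b - q).toNat + 1) q (by omega)
  intro n
  induction n with
  | zero => exact fun q hq => top q (by omega)
  | succ n ih =>
    intro q hq
    have hnext : Module.Projective R (Coker C q (q + 1)) := by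
      have t : ∀ a, a = q → Module.Projective R (Coker C a (q + 1)) →
          Module.Projective R (Coker C q (q + 1)) := by
        rintro _ rfl h; exact h
      exact t _ (by omega) (ih (q + 1) (by omega))
    let Rg := LinearMap.range (C.d q (q + 1)).hom
    have h3 : Module.Projective R Rg := by
      obtain ⟨s, hs⟩ := Module.projective_lifting_property Rg.mkQ LinearMap.id Rg.mkQ_surjective
      have : Module.Free R ((stk v).obj (Q.X (q + 1))) :=
        Groth.PropsBasic.LocFree.free_stalk _ (hfl (q + 1)) v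
      have : Module.Projective R (C.X (q + 1)) := inferInstanceAs (Module.Projective R ((stk v).obj _))
      refine Module.Projective.of_split Rg.subtype
        ((LinearMap.id - s ∘ₗ Rg.mkQ).codRestrict Rg fun y => ?hmem) ?hid
      case hmem =>
        rw [← Submodule.Quotient.mk_eq_zero Rg]
        change Rg.mkQ (y - s (Rg.mkQ y)) = 0
        rw [map_sub, sub_eq_zero]
        exact (LinearMap.congr_fun hs (Rg.mkQ y)).symm
      case hid =>
        refine LinearMap.ext fun y => Subtype.ext ?_
        change y.1 - s (Rg.mkQ y.1) = y.1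
        rw [show Rg.mkQ y.1 = 0 from (Submodule.Quotient.mk_eq_zero Rg).2 y.2, map_zero, sub_zero]
    let ψ : Coker C (q - 1) q →ₗ[R] Rg :=
      (LinearMap.range (C.d (q - 1) q).hom).liftQ (C.d q (q + 1)).hom.rangeRestrict (by
        rintro _ ⟨w, rfl⟩
        exact Subtype.ext (ConcreteCategory.congr_hom (C.d_comp_d (q - 1) q (q + 1)) w))
    have hψ : Function.Surjective ψ := fun y => by
      obtain ⟨x, hx⟩ := (C.d q (q + 1)).hom.surjective_rangeRestrict y
      exact ⟨Submodule.Quotient.mk x, hx⟩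
    obtain ⟨s, hs⟩ := Module.projective_lifting_property ψ LinearMap.id hψ
    let l : LinearMap.ker (C.d q (q + 1)).hom →ₗ[R] LinearMap.ker ψ :=
      ((LinearMap.range (C.d (q - 1) q).hom).mkQ.comp (LinearMap.ker (C.d q (q + 1)).hom).subtype).codRestrict
        (LinearMap.ker ψ) fun y => Subtype.ext (LinearMap.mem_ker.1 y.2)
    have hl : Function.Surjective l := fun z => by
      obtain ⟨x, hx⟩ := Submodule.mkQ_surjective (LinearMap.range (C.d (q - 1) q).hom) z.1
      have hz : ψ ((LinearMap.range (C.d (q - 1) q).hom).mkQ x) = 0 :=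
        (congrArg ψ hx).trans (LinearMap.mem_ker.1 z.2)
      exact ⟨⟨x, LinearMap.mem_ker.2 (congrArg Subtype.val hz)⟩, Subtype.ext hx⟩
    have hker : LinearMap.ker l = (LinearMap.range (C.d (q - 1) q).hom).comap
        (LinearMap.ker (C.d q (q + 1)).hom).subtype := by
      ext y
      rw [LinearMap.mem_ker, Submodule.mem_comap]
      refine ⟨fun hy => ?_, fun hy => Subtype.ext ?_⟩
      · exact (Submodule.Quotient.mk_eq_zero _).1 (congrArg Subtype.val hy)
      · exact (Submodule.Quotient.mk_eq_zero _).2 hy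
    have : Module.Free R (C.homology q) :=
      have hfree : Module.Free R ((stk v).obj (Q.sc q).homology) := h q
      haveI := hfree
      Module.Free.of_equiv (show (stk v).obj (Q.sc q).homology ≃ₗ[R] C.homology q
        from ((Q.sc q).mapHomologyIso (stk v)).symm.toLinearEquiv)
    let eH : LinearMap.ker ψ ≃ₗ[R] C.homology q :=
      (l.quotKerEquivOfSurjective hl).symm.trans ((Submodule.quotEquivOfEq _ _ hker).trans
        (Groth.FlatCxBase.homologyEquivQuot C (Groth.FlatCxBase.cochain_prev q)
          (Groth.FlatCxBase.cochain_next q)))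
    have : Module.Projective R (C.homology q) := Module.Projective.of_free
    have : Module.Projective R (LinearMap.ker ψ) := Module.Projective.of_equiv eH.symm
    refine Module.Projective.of_split
      (LinearMap.prod ((LinearMap.id - s ∘ₗ ψ).codRestrict (LinearMap.ker ψ) fun y => ?hk) ψ)
      ((LinearMap.ker ψ).subtype.coprod s) ?hi
    case hk =>
      rw [LinearMap.mem_ker, LinearMap.sub_apply, map_sub]
      exact sub_eq_zero.2 (LinearMap.congr_fun hs (ψ y)).symm
    case hi =>
      refine LinearMap.ext fun y => ?_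
      change (y - s (ψ y)) + s (ψ y) = y
      abel

/-- the free locus of the cohomology of a perfect object -/
theorem locus_free (E : DCoh.D X) (hE : DCoh.IsPerfect E) :
    ∃ U : X.Opens,
      (U : Set X) = {x : X | ∀ i : ℤ, Module.Free (X.presheaf.stalk x) ((DCoh.HD E i).presheaf.stalk x) ∧
        Module.Finite (X.presheaf.stalk x) ((DCoh.HD E i).presheaf.stalk x)} ∧
      (∀ i : ℤ, FlatMod.IsFinLocFree ((DCoh.HD E i).restrict U.ι)) ∧
      ∀ W : X.Opens, (∀ i : ℤ, FlatMod.IsFinLocFree ((DCoh.HD E i).restrict W.ι)) → W ≤ U := by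
  let S : Set X := {x : X | ∀ i : ℤ, Module.Free (X.presheaf.stalk x) ((stk x).obj (DCoh.HD E i)) ∧
    Module.Finite (X.presheaf.stalk x) ((stk x).obj (DCoh.HD E i))}
  have key : ∀ x ∈ S, ∃ (W : Scheme.{u}) (j : W ⟶ X) (_ : IsOpenImmersion j),
      x ∈ Set.range j ∧ ∀ i, FlatMod.IsFinLocFree ((DCoh.HD E i).restrict j) := fun x hx => by
    obtain ⟨V, hxV, Q, hQ, ⟨e⟩⟩ := (Groth.KTheory.Perf.isPerfect_iff E).1 hE x
    obtain ⟨⟨a, b, hab⟩, hfl⟩ := id hQ
    let v : (V : Scheme.{u}) := ⟨x, hxV⟩
    have hgood : ∀ q, Good Q v q := good_of_free_homology hQ v fun i => by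
      have := free_stalk_restrict V.ι v (hx i).1
      exact Module.Free.of_equiv ((stk v).mapIso ((Groth.KTheory.Perf.nonempty_hdRd V.ι E i).some.symm ≪≫
        (DerivedCategory.homologyFunctor _ i).mapIso e ≪≫ KFlat.hdIso Q i)).toLinearEquiv
    let O : (V : Scheme.{u}).Opens := ⟨⋂ q ∈ Finset.Icc a b, {w | Good Q w q},
      isOpen_biInter_finset fun q _ => isOpen_good hQ q⟩
    have hvO : v ∈ O := Set.mem_iInter₂.2 fun q _ => hgood q
    let Q' := (Rc O.ι).obj Q
    have hQ' : DCoh.IsStrictlyPerfect Q' := Groth.KTheory.Perf.rc_isStrictlyPerfect O.ι hQ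
    have hg' : ∀ (w : (O : Scheme.{u})) q, Good Q' w q := fun w q => by
      refine (good_rc O.ι Q w q).2 ?_
      by_cases hq : q ∈ Finset.Icc a b
      · exact Set.mem_iInter₂.1 w.2 q hq
      · simp only [Finset.mem_Icc, not_and_or, not_le] at hq
        have : Subsingleton (((stkCx (O.ι w)).obj Q).X q) :=
          ModuleCat.subsingleton_of_isZero ((stk (O.ι w)).map_isZero (hab q hq))
        have : Subsingleton (Coker ((stkCx (O.ι w)).obj Q) (q - 1) q) :=
          (Submodule.mkQ_surjective _).subsingleton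
        exact @Module.Flat.of_projective _ _ _ _ _ inferInstance
    obtain ⟨c⟩ := Groth.KTheory.Perf.nonempty_rdComp (k := O.ι) (j := V.ι) (l := O.ι ≫ V.ι) rfl E
    refine ⟨O, O.ι ≫ V.ι, inferInstance, ⟨⟨v, hvO⟩, rfl⟩, fun i => ?_⟩
    let ei : (DCoh.HD E i).restrict (O.ι ≫ V.ι) ≅ Q'.homology i :=
      (Groth.KTheory.Perf.nonempty_hdRd (O.ι ≫ V.ι) E i).some.symm ≪≫
        (DerivedCategory.homologyFunctor _ i).mapIso (c ≪≫ (Rd O.ι).mapIso e ≪≫ rdQIso O.ι Q) ≪≫
        KFlat.hdIso Q' i
    exact Groth.KTheory.LocFree.isFinLocFree_of_iso ei.symm (isFinLocFree_homology hQ' i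
      (isFinLocFree_of_good hQ' i fun w => hg' w i)
      (isFinLocFree_coker_succ hQ' i fun w => hg' w (i + 1)))
  have hS : IsOpen S := by
    rw [isOpen_iff_forall_mem_open]
    intro x hx
    obtain ⟨W, j, _, hxj, hfl⟩ := key x hx
    refine ⟨Set.range j, ?_, j.isOpenEmbedding.isOpen_range, hxj⟩
    rintro _ ⟨w, rfl⟩ i
    exact free_stalk_of_restrict j (hfl i) w
  refine ⟨⟨S, hS⟩, rfl, fun i => isFinLocFree_cover fun y => ?_, fun W hW x hx i => ?_⟩
  · obtain ⟨W, j, _, ⟨w, hw⟩, hfl⟩ := key _ y.2
    let U₀ : X.Opens := ⟨S, hS⟩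
    let D : W.Opens := j ⁻¹ᵁ U₀
    have hr : Set.range (D.ι ≫ j) ⊆ Set.range U₀.ι := by
      rintro _ ⟨z, rfl⟩
      rw [Scheme.Opens.range_ι]
      exact z.2
    let k := IsOpenImmersion.lift U₀.ι (D.ι ≫ j) hr
    have hk : k ≫ U₀.ι = D.ι ≫ j := IsOpenImmersion.lift_fac _ _ _
    have : IsOpenImmersion (k ≫ U₀.ι) := hk ▸ inferInstance
    have : IsOpenImmersion k := IsOpenImmersion.of_comp k U₀.ι
    have hwD : w ∈ D := show j w ∈ S from hw ▸ y.2
    refine ⟨D, k, inferInstance, ⟨⟨w, hwD⟩, U₀.ι.injective ?_⟩, ?_⟩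
    · rw [← Scheme.Hom.comp_apply, hk]
      exact hw
    · refine Groth.KTheory.LocFree.isFinLocFree_of_iso ?_
        (Groth.LocFree.isFinLocFree_restrict D.ι (hfl i))
      exact ((Scheme.Modules.restrictFunctorComp D.ι j).app _).symm ≪≫
        (Scheme.Modules.restrictFunctorCongr hk.symm).app _ ≪≫
        (Scheme.Modules.restrictFunctorComp k U₀.ι).app _
  · exact free_stalk_of_restrict W.ι (hW i) ⟨x, hx⟩

end Groth.DerivedCoh.ExactHom
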