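import Groth.Agent.DAlg.KFlatOps
import Groth.Agent.DAlg.SiteLTensorLeft
import Groth.Agent.DerivedCoh.KFlat.Pointwise
import Groth.Prelude.Def_DRing4
import Groth.Prelude.Def_ega3

/-!
`M ↦ H^p(M ⊗^L F)` over a ring, through a K-flat complex quasi-isomorphic to `F`.
-/

universe u

open CategoryTheory CategoryTheory.Limits MonoidalCategory HomologicalComplex
open Groth.DAlg.KFlatMod (T IsKFlatCx resFunctor resAug resAug_quasiIso res_isKFlat isKFlatCx_iff
  isKFlat_flip leftTensorIso)
open Groth.DerivedCoh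

namespace Groth.DerivedCoh.ExactHom

attribute [local instance] HasDerivedCategory.standard

variable {R : Type u} [CommRing R]

local notation "up" => ComplexShape.up ℤ

lemma tensorCxQ_inverts_ring {P : DRing.Cx R} (hP : IsKFlatCx R P) :
    (HomologicalComplex.quasiIso (ModuleCat.{u} R) up).IsInvertedBy (DRing.tensorCxQ R P) :=
  fun A B f hf => by
    have : QuasiIso f := (HomologicalComplex.mem_quasiIso_iff f).1 hf
    have := Groth.DAlg.KFlatMod.quasiIso_whiskerRight hP f
    exact (DerivedCategory.isIso_Q_map_iff_quasiIso _ _).2 this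

/-- `- ⊗^L F` over a ring through a K-flat complex quasi-isomorphic to `F` -/
theorem nonempty_ltcxQIso_ring (F : DRing.Cx R) [DRing.HasLTensorCx R F] {P : DRing.Cx R}
    (hP : IsKFlatCx R P) (β : P ⟶ F) [QuasiIso β] :
    Nonempty (DerivedCategory.Q ⋙ DRing.LTensorCx R F ≅ DRing.tensorCxQ R P) := by
  let W := HomologicalComplex.quasiIso (ModuleCat.{u} R) up
  let Rf := resFunctor R
  let π : Rf ⟶ 𝟭 (DRing.Cx R) := resAug R
  have hπ : ∀ C, W (π.app C) := fun C =>
    (HomologicalComplex.mem_quasiIso_iff _).2 (resAug_quasiIso C)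
  let δ : DRing.tensorCxQ R P ⟶ DRing.tensorCxQ R F :=
    Functor.whiskerRight ((tensoringRight (DRing.Cx R)).map β) DerivedCategory.Q
  have hδ : ∀ C, IsIso (δ.app (Rf.obj C)) := fun C => by
    have : QuasiIso ((KFlat.totR (T R) (Rf.obj C)).map β) :=
      KFlat.quasiIso_totR (T R) (isKFlat_flip (isKFlatCx_iff.1 (res_isKFlat C))) β
    exact (DerivedCategory.isIso_Q_map_iff_quasiIso _ _).2 this
  have : ∀ C, IsIso ((Functor.whiskerLeft Rf δ).app C) := hδ
  have := NatIso.isIso_of_isIso_app (Functor.whiskerLeft Rf δ)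
  let e₁ : Rf ⋙ DRing.tensorCxQ R P ≅ Rf ⋙ DRing.tensorCxQ R F := asIso (Functor.whiskerLeft Rf δ)
  have hPi := tensorCxQ_inverts_ring hP
  have hπP : ∀ C, IsIso ((Functor.whiskerRight π (DRing.tensorCxQ R P)).app C) := fun C =>
    hPi _ (hπ C)
  have := NatIso.isIso_of_isIso_app (Functor.whiskerRight π (DRing.tensorCxQ R P))
  let e₂ : Rf ⋙ DRing.tensorCxQ R P ≅ DRing.tensorCxQ R P :=
    asIso (Functor.whiskerRight π (DRing.tensorCxQ R P)) ≪≫ Functor.leftUnitor _
  have hR : W.IsInvertedBy (Rf ⋙ DRing.tensorCxQ R F) :=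
    (MorphismProperty.IsInvertedBy.iff_of_iso W (e₁.symm ≪≫ e₂)).2 hPi
  have hFπ : ∀ C, IsIso ((DRing.tensorCxQ R F).map (π.app (Rf.obj C))) := fun C => by
    have h := δ.naturality (π.app (Rf.obj C))
    have := hδ C
    have := hδ (Rf.obj C)
    have := hPi _ (hπ (Rf.obj C))
    have : IsIso (δ.app (Rf.obj (Rf.obj C)) ≫ (DRing.tensorCxQ R F).map (π.app (Rf.obj C))) := by
      rw [← h]
      exact IsIso.comp_isIso' this (hδ C)
    exact IsIso.of_isIso_comp_left (δ.app (Rf.obj (Rf.obj C))) _
  let c : DerivedCategory.Q ⋙ DRing.LTensorCx R F ⟶ DRing.tensorCxQ R F :=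
    (DRing.tensorCxQ R F).totalLeftDerivedCounit DerivedCategory.Q W
  have hc : ∀ C, IsIso ((Functor.whiskerLeft Rf c).app C) := fun C =>
    Groth.DAlg.isIso_counit_of_resolution W (DRing.LTensorCx R F) c Rf π hπ hR _ (hFπ C)
  have := NatIso.isIso_of_isIso_app (Functor.whiskerLeft Rf c)
  have : ∀ C, IsIso ((Functor.whiskerRight π DerivedCategory.Q).app C) := fun C =>
    (DerivedCategory.isIso_Q_map_iff_quasiIso _ _).2 (resAug_quasiIso C)
  have := NatIso.isIso_of_isIso_app (Functor.whiskerRight π DerivedCategory.Q)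
  exact ⟨Functor.isoWhiskerRight (asIso (Functor.whiskerRight π DerivedCategory.Q)).symm
      (DRing.LTensorCx R F) ≪≫ Functor.associator _ _ _ ≪≫
    asIso (Functor.whiskerLeft Rf c) ≪≫ e₁.symm ≪≫ e₂⟩

/-- `M ↦ M ⊗ P` on modules -/
noncomputable def tmR (P : DRing.Cx R) : ModuleCat.{u} R ⥤ DRing.Cx R where
  obj M := CohIII.tensorObj P M
  map f := CohIII.tensorMap P f
  map_id M := HomologicalComplex.hom_ext _ _ fun q => by
    change ((tensoringRight (ModuleCat.{u} R)).map (𝟙 M)).app (P.X q) = 𝟙 _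
    rw [CategoryTheory.Functor.map_id]; rfl
  map_comp f g := HomologicalComplex.hom_ext _ _ fun q => by
    change ((tensoringRight (ModuleCat.{u} R)).map (f ≫ g)).app (P.X q) = _
    rw [Functor.map_comp]; rfl

/-- `M ↦ M ⊗ P` on the left -/
noncomputable def tmLR (P : DRing.Cx R) : ModuleCat.{u} R ⥤ DRing.Cx R where
  obj M := (((T R).obj M).mapHomologicalComplex up).obj P
  map f := (NatTrans.mapHomologicalComplex ((T R).map f) up).app P
  map_id M := HomologicalComplex.hom_ext _ _ fun q => by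
    change ((T R).map (𝟙 M)).app (P.X q) = 𝟙 _
    rw [CategoryTheory.Functor.map_id]; rfl
  map_comp f g := HomologicalComplex.hom_ext _ _ fun q => by
    change ((T R).map (f ≫ g)).app (P.X q) = _
    rw [Functor.map_comp]; rfl

/-- the bicomplex of a module in degree zero and a complex, naturally -/
noncomputable def singleBiIsoRing (P : DRing.Cx R) :
    HomologicalComplex.single (ModuleCat.{u} R) up 0 ⋙ (KFlat.Bi (T R)).flip.obj P ≅
      tmLR P ⋙ KFlat.Cover.biSingle :=
  NatIso.ofComponents (fun M => KFlat.biSingleTensorIso (T R) M P) fun {M N} f => by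
    refine HomologicalComplex.to_single_hom_ext ?_
    refine HomologicalComplex.hom_ext _ _ fun q => ?_
    simp only [KFlat.biSingleTensorIso, tmLR, Functor.comp_map, Functor.flip_obj_map, comp_f,
      mkHomToSingle_f, single_map_f_self, Category.assoc]
    simp [single_map_f_self]
    have e : (singleObjXSelf up 0 N).inv ▷ P.X q ≫ (singleObjXSelf up 0 N).hom ▷ P.X q = 𝟙 _ := by
      rw [← MonoidalCategory.comp_whiskerRight, Iso.inv_hom_id, MonoidalCategory.id_whiskerRight]
    refine (Category.assoc _ _ _).trans (congrArg (_ ≫ ·) ?_)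
    refine (Category.assoc _ _ _).trans (congrArg (_ ≫ ·) ?_)
    exact (Category.assoc _ _ _).symm.trans ((congrArg (· ≫ _) e).trans (Category.id_comp _))

/-- a module in degree zero tensored with a complex, naturally -/
noncomputable def singleTotIsoRing (P : DRing.Cx R) :
    HomologicalComplex.single (ModuleCat.{u} R) up 0 ⋙ KFlat.totL (T R) P ≅ tmR P :=
  Functor.isoWhiskerLeft _ (KFlat.totLIso (T R) P) ≪≫ (Functor.associator _ _ _).symm ≪≫
    Functor.isoWhiskerRight (singleBiIsoRing P) (HomologicalComplex₂.totalFunctor _ up up up) ≪≫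
    Functor.associator _ _ _ ≪≫ Functor.isoWhiskerLeft (tmLR P) KFlat.Cover.totalSingleIso ≪≫
    Functor.rightUnitor _ ≪≫
    NatIso.ofComponents (fun M => leftTensorIso M P) fun {M N} f =>
      HomologicalComplex.hom_ext _ _ fun q => BraidedCategory.braiding_naturality_left f (P.X q)

/-- `M ↦ H^p(M ⊗^L F)` over a ring is `T_p` of a K-flat complex quasi-isomorphic to `F` -/
theorem nonempty_tFunIso (F : DRing.Cx R) [DRing.HasLTensorCx R F] (p : ℤ) {P : DRing.Cx R}
    (hP : IsKFlatCx R P) (β : P ⟶ F) [QuasiIso β] :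
    Nonempty (DerivedCategory.singleFunctor (ModuleCat.{u} R) 0 ⋙ DRing.LTensorCx R F ⋙
      DerivedCategory.homologyFunctor (ModuleCat.{u} R) p ≅ CohIII.TFun P p) := by
  obtain ⟨e⟩ := nonempty_ltcxQIso_ring F hP β
  exact ⟨Functor.isoWhiskerLeft (CochainComplex.singleFunctor (ModuleCat.{u} R) 0)
      (Functor.isoWhiskerRight e (DerivedCategory.homologyFunctor (ModuleCat.{u} R) p) ≪≫
        Functor.associator _ _ _ ≪≫
        Functor.isoWhiskerLeft (KFlat.totL (T R) P)
          (DerivedCategory.homologyFunctorFactors (ModuleCat.{u} R) p)) ≪≫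
    (Functor.associator _ _ _).symm ≪≫
    Functor.isoWhiskerRight (singleTotIsoRing P) (HomologicalComplex.homologyFunctor _ up p) ≪≫
    NatIso.ofComponents (fun M => Iso.refl _) (fun f => (Category.comp_id _).trans (Category.id_comp _).symm)⟩

end Groth.DerivedCoh.ExactHom
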