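import Groth.Agent.DerivedCoh.ExactHom.Criteria
import Groth.Agent.DerivedCoh.ExactHom.Chart
import Groth.Agent.DerivedCoh.ExactHom.RingFunctor
import Groth.Prelude.Def_DerSch

/-!
Exactness of `M ↦ H^p(M ⊗^L F)`: consequences and criteria.
-/

universe u

open CategoryTheory CategoryTheory.Limits AlgebraicGeometry HomologicalComplex
open Groth.DerivedCoh.KFlat (stk T IsKFlat)
open Groth.DerivedCoh.StalkAmp (stkCx)
open Groth.KTheory.Perf (Rc)

namespace Groth.DerivedCoh.ExactHom

attribute [local instance] HasDerivedCategory.standard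

variable {X : Scheme.{u}} (F : CochainComplex X.Modules ℤ) (e : ℤ) [(DCoh.toD X F).IsLE e] (p : ℤ)

local notation "up" => ComplexShape.up ℤ

include e in
theorem finLocFree_of_exact (hE : DCoh.IsPseudoCoherentD (p - 1) (DCoh.toD X F)) [DCoh.HasLTensorCx F]
    [PreservesFiniteLimits (homL F p)] [PreservesFiniteColimits (homL F p)]
    [∀ x : X, DCoh.HasLpull (X.fromSpecResidueField x)] :
    FlatMod.IsFinLocFree (DCoh.HD (DCoh.toD X F) p) ∧
      IsLocallyConstant (fun x : X => PerfD.betti (DCoh.toD X F) x p) := by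
  obtain ⟨P, β, _, hP0, hPf, hK⟩ := exists_flat_rep F e
  obtain ⟨i⟩ := nonempty_homLIso F p hK β
  have := preservesFiniteLimits_of_natIso i
  have := preservesFiniteColimits_of_natIso i
  exact isFinLocFree_hd hP0 hPf β hE
    (fun x => good_of_mono hPf (testAt_top x) fun _ _ f _ _ _ => inferInstance)
    (fun x => good_succ_of_epi hPf (testAt_top x) fun _ _ f _ _ _ => inferInstance)

include e in
theorem finLocFree_of_exact_qcoh [QuasiSeparatedSpace X]
    (hE : DCoh.IsPseudoCoherentD (p - 1) (DCoh.toD X F)) [DCoh.HasLTensorCx F]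
    [PreservesFiniteLimits ((QCohCat.isQCoh X).ι ⋙ homL F p)]
    [PreservesFiniteColimits ((QCohCat.isQCoh X).ι ⋙ homL F p)]
    [∀ x : X, DCoh.HasLpull (X.fromSpecResidueField x)] :
    FlatMod.IsFinLocFree (DCoh.HD (DCoh.toD X F) p) ∧
      IsLocallyConstant (fun x : X => PerfD.betti (DCoh.toD X F) x p) := by
  obtain ⟨P, β, _, hP0, hPf, hK⟩ := exists_flat_rep F e
  obtain ⟨i⟩ := nonempty_homLIso F p hK β
  have := preservesFiniteLimits_of_natIso (Functor.isoWhiskerLeft (QCohCat.isQCoh X).ι i)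
  have := preservesFiniteColimits_of_natIso (Functor.isoWhiskerLeft (QCohCat.isQCoh X).ι i)
  refine isFinLocFree_hd hP0 hPf β hE
    (fun x => good_of_mono hPf (testAt_qcoh x) fun M N f hM hN _ => ?_)
    (fun x => good_succ_of_epi hPf (testAt_qcoh x) fun M N f hM hN _ => ?_)
  · let f' : (⟨M, hM⟩ : QCohCat.QCoh X) ⟶ ⟨N, hN⟩ := ObjectProperty.homMk f
    have : Mono ((QCohCat.isQCoh X).ι.map f') := ‹Mono f›
    have : Mono f' := (QCohCat.isQCoh X).ι.mono_of_mono_map this
    exact inferInstanceAs (Mono (((QCohCat.isQCoh X).ι ⋙ homP P p).map f'))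
  · let f' : (⟨M, hM⟩ : QCohCat.QCoh X) ⟶ ⟨N, hN⟩ := ObjectProperty.homMk f
    have : Epi ((QCohCat.isQCoh X).ι.map f') := ‹Epi f›
    have : Epi f' := (QCohCat.isQCoh X).ι.epi_of_epi_map this
    exact inferInstanceAs (Epi (((QCohCat.isQCoh X).ι ⋙ homP P p).map f'))

/-- the functor on modules over a local ring -/
noncomputable abbrev homR (x : X)
    [DRing.HasLTensorCx (X.presheaf.stalk x) (((DerSch.stalkFunctor X x).mapHomologicalComplex up).obj F)] :
    ModuleCat.{u} (X.presheaf.stalk x) ⥤ ModuleCat.{u} (X.presheaf.stalk x) :=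
  DerivedCategory.singleFunctor (ModuleCat.{u} (X.presheaf.stalk x)) 0 ⋙
    DRing.LTensorCx (X.presheaf.stalk x) (((DerSch.stalkFunctor X x).mapHomologicalComplex up).obj F) ⋙
    DerivedCategory.homologyFunctor (ModuleCat.{u} (X.presheaf.stalk x)) p

omit [(DCoh.toD X F).IsLE e] in
theorem nonempty_homRIso {P : CochainComplex X.Modules ℤ} (hP0 : ∀ q, e < q → IsZero (P.X q))
    (hPf : ∀ q, FlatMod.IsFlat (P.X q)) (β : P ⟶ F) [QuasiIso β] (x : X)
    [DRing.HasLTensorCx (X.presheaf.stalk x) (((DerSch.stalkFunctor X x).mapHomologicalComplex up).obj F)] :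
    Nonempty (homR F p x ≅ CohIII.TFun ((stkCx x).obj P) p) :=
  nonempty_tFunIso _ p (Groth.DAlg.KFlatMod.isKFlatCx_of_flat ((stkCx x).obj P) (b := e)
    (fun q hq => (stk x).map_isZero (hP0 q hq)) fun q => hPf q x) ((stkCx x).map β)

include e in
theorem rightExact_nhd (hE : DCoh.IsPseudoCoherentD p (DCoh.toD X F)) (x : X)
    [DRing.HasLTensorCx (X.presheaf.stalk x) (((DerSch.stalkFunctor X x).mapHomologicalComplex up).obj F)]
    [PreservesFiniteColimits (homR F p x)]
    [∀ U : X.Opens, DCoh.HasLTensorCx ((DCoh.restrictCx U).obj F)] :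
    ∃ U : X.Opens, x ∈ U ∧ PreservesFiniteColimits (homL ((DCoh.restrictCx U).obj F) p) := by
  obtain ⟨P, β, _, hP0, hPf, hK⟩ := exists_flat_rep F e
  obtain ⟨i⟩ := nonempty_homRIso F e p hP0 hPf β x
  have := preservesFiniteColimits_of_natIso i
  have : ∀ q, Module.Flat (X.presheaf.stalk x) (((stkCx x).obj P).X q) := fun q => hPf q x
  have hx : Good P x (p + 1) := (good_succ x p).2 ((Groth.FlatCxBase.preservesEpi_iff_flat
    ((stkCx x).obj P) (Groth.FlatCxBase.cochain_prev p) (Groth.FlatCxBase.cochain_next p)).1 inferInstance)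
  let U : X.Opens := ⟨_, isOpen_good_of_pcoh hP0 hPf β hE (q := p + 1) (by omega)⟩
  refine ⟨U, hx, ?_⟩
  let P' := (Rc U.ι).obj P
  let β' : P' ⟶ (DCoh.restrictCx U).obj F := (Rc U.ι).map β
  have : QuasiIso β' := by dsimp [β']; infer_instance
  have hf' : ∀ q, FlatMod.IsFlat (P'.X q) := fun q => PCoh.isFlat_restrict _ (hPf q)
  obtain ⟨j⟩ := nonempty_homLIso ((DCoh.restrictCx U).obj F) p
    (KFlat.isKFlat_of_flat (T _) P' e (fun q hq => Groth.KTheory.Perf.rc_isZero U.ι (hP0 q hq))
      fun q => KFlat.flat_of_isFlat (hf' q)) β'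
  have := preservesFiniteColimits_homP hf' (p := p) fun v => (good_rc U.ι P v (p + 1)).2 v.2
  exact preservesFiniteColimits_of_natIso j.symm

include e in
theorem leftExact_nhd (hE : DCoh.IsPseudoCoherentD (p - 1) (DCoh.toD X F)) (x : X)
    [DRing.HasLTensorCx (X.presheaf.stalk x) (((DerSch.stalkFunctor X x).mapHomologicalComplex up).obj F)]
    [PreservesFiniteLimits (homR F p x)]
    [∀ U : X.Opens, DCoh.HasLTensorCx ((DCoh.restrictCx U).obj F)] :
    ∃ U : X.Opens, x ∈ U ∧ PreservesFiniteLimits (homL ((DCoh.restrictCx U).obj F) p) := by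
  obtain ⟨P, β, _, hP0, hPf, hK⟩ := exists_flat_rep F e
  obtain ⟨i⟩ := nonempty_homRIso F e p hP0 hPf β x
  have := preservesFiniteLimits_of_natIso i
  have : ∀ q, Module.Flat (X.presheaf.stalk x) (((stkCx x).obj P).X q) := fun q => hPf q x
  have hx : Good P x p := (Groth.FlatCxBase.preservesMono_iff_flat
    ((stkCx x).obj P) (Groth.FlatCxBase.cochain_prev p) (Groth.FlatCxBase.cochain_next p)).1 inferInstance
  let U : X.Opens := ⟨_, isOpen_good_of_pcoh hP0 hPf β hE (q := p) (by omega)⟩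
  refine ⟨U, hx, ?_⟩
  let P' := (Rc U.ι).obj P
  let β' : P' ⟶ (DCoh.restrictCx U).obj F := (Rc U.ι).map β
  have : QuasiIso β' := by dsimp [β']; infer_instance
  have hf' : ∀ q, FlatMod.IsFlat (P'.X q) := fun q => PCoh.isFlat_restrict _ (hPf q)
  obtain ⟨j⟩ := nonempty_homLIso ((DCoh.restrictCx U).obj F) p
    (KFlat.isKFlat_of_flat (T _) P' e (fun q hq => Groth.KTheory.Perf.rc_isZero U.ι (hP0 q hq))
      fun q => KFlat.flat_of_isFlat (hf' q)) β'
  have := preservesFiniteLimits_homP hf' (p := p) fun v => (good_rc U.ι P v p).2 v.2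
  exact preservesFiniteLimits_of_natIso j.symm

include e in
theorem exact_qcoh_of_betti [IsReduced X] (hE : DCoh.IsPseudoCoherentD (p - 1) (DCoh.toD X F))
    [∀ x : X, DCoh.HasLpull (X.fromSpecResidueField x)] [DCoh.HasLTensorCx F]
    (hc : IsLocallyConstant (fun x : X => PerfD.betti (DCoh.toD X F) x p)) :
    PreservesFiniteLimits ((QCohCat.isQCoh X).ι ⋙ homL F p) ∧
      PreservesFiniteColimits ((QCohCat.isQCoh X).ι ⋙ homL F p) := by
  obtain ⟨P, β, _, hP0, hPf, hK⟩ := exists_flat_rep F e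
  obtain ⟨i⟩ := nonempty_homLIso F p hK β
  have := preservesFiniteLimits_homP hPf (p := p) fun x => (good_of_betti hP0 hPf β hE hc x).1
  have := preservesFiniteColimits_homP hPf (p := p) fun x => (good_of_betti hP0 hPf β hE hc x).2
  have := preservesFiniteLimits_of_natIso i.symm
  have := preservesFiniteColimits_of_natIso i.symm
  have : PreservesFiniteColimits (QCohCat.isQCoh X).ι := inferInstance
  exact ⟨comp_preservesFiniteLimits _ _, comp_preservesFiniteColimits _ _⟩

end Groth.DerivedCoh.ExactHom
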