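import Groth.Agent.SitesTopoi.Mod.KFlat
import Groth.Agent.DAlg.SiteLTensorLeft
import Groth.Agent.DerivedCoh.KFlat.Pointwise
import Mathlib.Algebra.Homology.ShortComplex.ExactFunctor
import Mathlib.Algebra.Homology.HomologySequence
import Mathlib.Algebra.Homology.HomologicalComplexAbelian

/-!
`M ↦ H^p(M ⊗^L E)` on a ringed site.
-/

universe u

open CategoryTheory CategoryTheory.Limits HomologicalComplex
open Groth.SitesTopoi Groth.SitesTopoi.ModH

set_option synthInstance.maxHeartbeats 400000

namespace Groth.DerivedCoh.ExactHom.Site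

attribute [local instance] HasDerivedCategory.standard

variable {C : Type u} [SmallCategory C] {J : GrothendieckTopology C} {O : Sheaf J CommRingCat.{u}}

local notation "up" => ComplexShape.up ℤ
local notation "T" => KFlatSite.T O

/-- `M ↦ M ⊗ P` -/
noncomputable def tmP (P : CochainComplex (ModSite.Mod O) ℤ) :
    ModSite.Mod O ⥤ CochainComplex (ModSite.Mod O) ℤ where
  obj M := (((T).obj M).mapHomologicalComplex up).obj P
  map f := (NatTrans.mapHomologicalComplex ((T).map f) up).app P
  map_id M := HomologicalComplex.hom_ext _ _ fun q => by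
    change ((T).map (𝟙 M)).app (P.X q) = 𝟙 _
    rw [CategoryTheory.Functor.map_id]; rfl
  map_comp f g := HomologicalComplex.hom_ext _ _ fun q => by
    change ((T).map (f ≫ g)).app (P.X q) = _
    rw [Functor.map_comp]; rfl

instance additive_tmP (P : CochainComplex (ModSite.Mod O) ℤ) : (tmP P).Additive where
  map_add {M N f g} := HomologicalComplex.hom_ext _ _ fun q => by
    change ((T).map (f + g)).app (P.X q) = _
    rw [Functor.map_add]; rfl

/-- the bicomplex of a module in degree zero and a complex, naturally -/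
noncomputable def singleBiIso (P : CochainComplex (ModSite.Mod O) ℤ) :
    HomologicalComplex.single (ModSite.Mod O) up 0 ⋙ (KFlat.Bi (T)).flip.obj P ≅
      tmP P ⋙ KFlat.Cover.biSingle :=
  NatIso.ofComponents (fun M => KFlat.biSingleTensorIso (T) M P) fun {M N} f => by
    refine HomologicalComplex.to_single_hom_ext ?_
    refine HomologicalComplex.hom_ext _ _ fun q => ?_
    simp only [KFlat.biSingleTensorIso, tmP, Functor.comp_map, Functor.flip_obj_map, comp_f,
      mkHomToSingle_f, single_map_f_self, Category.assoc]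
    simp
    have e : ((T).map (singleObjXSelf up 0 N).inv).app (P.X q) ≫
        ((T).map (singleObjXSelf up 0 N).hom).app (P.X q) = 𝟙 _ := by
      rw [← NatTrans.comp_app, ← Functor.map_comp, Iso.inv_hom_id, CategoryTheory.Functor.map_id]
      rfl
    simp only [single_map_f_self, Functor.map_comp, NatTrans.comp_app]
    refine (Category.assoc _ _ _).trans (congrArg (_ ≫ ·) ?_)
    refine (Category.assoc _ _ _).trans (congrArg (_ ≫ ·) ?_)
    exact (Category.assoc _ _ _).symm.trans ((congrArg (· ≫ _) e).trans (Category.id_comp _))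

/-- a module in degree zero tensored with a complex, naturally -/
noncomputable def singleTotIso (P : CochainComplex (ModSite.Mod O) ℤ) :
    HomologicalComplex.single (ModSite.Mod O) up 0 ⋙ KFlat.totL (T) P ≅ tmP P :=
  Functor.isoWhiskerLeft _ (KFlat.totLIso (T) P) ≪≫ (Functor.associator _ _ _).symm ≪≫
    Functor.isoWhiskerRight (singleBiIso P) (HomologicalComplex₂.totalFunctor _ up up up) ≪≫
    Functor.associator _ _ _ ≪≫ Functor.isoWhiskerLeft (tmP P) KFlat.Cover.totalSingleIso ≪≫
    Functor.rightUnitor _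

/-- `M ↦ H^p(M ⊗ P)` -/
noncomputable abbrev homP (P : CochainComplex (ModSite.Mod O) ℤ) (p : ℤ) :
    ModSite.Mod O ⥤ ModSite.Mod O :=
  tmP P ⋙ HomologicalComplex.homologyFunctor (ModSite.Mod O) up p

/-- `M ↦ H^p(M ⊗^L E)` -/
noncomputable abbrev homL (E : CochainComplex (ModSite.Mod O) ℤ) [ModSite.HasLTensorCx E] (p : ℤ) :
    ModSite.Mod O ⥤ ModSite.Mod O :=
  DerivedCategory.singleFunctor (ModSite.Mod O) 0 ⋙ ModSite.LTensorCx E ⋙
    DerivedCategory.homologyFunctor (ModSite.Mod O) p

/-- `M ↦ H^p(M ⊗^L E)` through a K-flat complex quasi-isomorphic to `E` -/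
theorem nonempty_homLIso (E : CochainComplex (ModSite.Mod O) ℤ) [ModSite.HasLTensorCx E] (p : ℤ)
    {P : CochainComplex (ModSite.Mod O) ℤ} (hP : KFlat.IsKFlat (T) P) (β : P ⟶ E) [QuasiIso β] :
    Nonempty (homL E p ≅ homP P p) := by
  let Rf := KFlatSite.resolution O
  let π : Rf ⟶ 𝟭 _ := KFlatSite.resolutionAug O
  let δ : ModSite.tensorCxQ P ⟶ ModSite.tensorCxQ E :=
    Functor.whiskerRight ((ModSite.tensorCx O).flip.map β) DerivedCategory.Q
  have : ∀ K, IsIso ((Functor.whiskerLeft Rf δ).app K) := fun K => by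
    have : QuasiIso ((KFlat.totR (T) (Rf.obj K)).map β) :=
      KFlat.quasiIso_totR (T) (KFlatSite.resolution_isKFlat_flip K) β
    exact (DerivedCategory.isIso_Q_map_iff_quasiIso _ _).2 this
  have := NatIso.isIso_of_isIso_app (Functor.whiskerLeft Rf δ)
  have : ∀ K, IsIso ((Functor.whiskerRight π (ModSite.tensorCxQ P)).app K) := fun K => by
    have : QuasiIso (π.app K) := KFlatSite.resolution_quasiIso K
    exact (DerivedCategory.isIso_Q_map_iff_quasiIso _ _).2 (hP.quasiIso_totL (π.app K))
  have := NatIso.isIso_of_isIso_app (Functor.whiskerRight π (ModSite.tensorCxQ P))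
  let c : DerivedCategory.Q ⋙ ModSite.LTensorCx E ⟶ ModSite.tensorCxQ E :=
    (ModSite.tensorCxQ E).totalLeftDerivedCounit DerivedCategory.Q
      (HomologicalComplex.quasiIso (ModSite.Mod O) up)
  have : ∀ K, IsIso ((Functor.whiskerLeft Rf c).app K) := fun K =>
    Groth.DAlg.SiteLTensorLeft.isIso_counit_app E _ (KFlatSite.resolution_isKFlat_flip K)
  have := NatIso.isIso_of_isIso_app (Functor.whiskerLeft Rf c)
  have : ∀ K, IsIso ((Functor.whiskerRight π DerivedCategory.Q).app K) := fun K =>
    (DerivedCategory.isIso_Q_map_iff_quasiIso _ _).2 (KFlatSite.resolution_quasiIso K)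
  have := NatIso.isIso_of_isIso_app (Functor.whiskerRight π DerivedCategory.Q)
  let e : DerivedCategory.Q ⋙ ModSite.LTensorCx E ≅ ModSite.tensorCxQ P :=
    Functor.isoWhiskerRight (asIso (Functor.whiskerRight π DerivedCategory.Q)).symm
      (ModSite.LTensorCx E) ≪≫ Functor.associator _ _ _ ≪≫
    asIso (Functor.whiskerLeft Rf c) ≪≫ (asIso (Functor.whiskerLeft Rf δ)).symm ≪≫
    asIso (Functor.whiskerRight π (ModSite.tensorCxQ P)) ≪≫ Functor.leftUnitor _
  exact ⟨Functor.isoWhiskerLeft (CochainComplex.singleFunctor (ModSite.Mod O) 0)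
      (Functor.isoWhiskerRight e (DerivedCategory.homologyFunctor (ModSite.Mod O) p) ≪≫
        Functor.associator _ _ _ ≪≫
        Functor.isoWhiskerLeft (KFlat.totL (T) P)
          (DerivedCategory.homologyFunctorFactors (ModSite.Mod O) p)) ≪≫
    (Functor.associator _ _ _).symm ≪≫
    Functor.isoWhiskerRight (singleTotIso P) (HomologicalComplex.homologyFunctor _ up p)⟩

/-- bounded above flat complexes are K-flat -/
lemma isKFlat_of_flat (P : CochainComplex (ModSite.Mod O) ℤ) {e : ℤ}
    (h0 : ∀ q, e < q → IsZero (P.X q)) (hf : ∀ q, ModSite.IsFlat (P.X q)) : KFlat.IsKFlat (T) P :=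
  KFlat.isKFlat_of_flat (T) P e h0 fun q => KFlatSite.flat_of_isFlat (hf q)

/-- a bounded above flat representative -/
theorem exists_flat_rep (E : CochainComplex (ModSite.Mod O) ℤ) (e : ℤ)
    [(DerivedCategory.Q.obj E).IsLE e] :
    ∃ (P : CochainComplex (ModSite.Mod O) ℤ) (β : P ⟶ E), QuasiIso β ∧
      (∀ q, e < q → IsZero (P.X q)) ∧ (∀ q, ModSite.IsFlat (P.X q)) := by
  have : E.IsLE e := by
    rw [CochainComplex.isLE_iff]
    intro i hi
    rw [exactAt_iff_isZero_homology]
    exact (DerivedCategory.isZero_of_isLE _ e i hi).of_iso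
      ((DerivedCategory.homologyFunctorFactors (ModSite.Mod O) i).app E).symm
  let V := Groth.Misc4.FreeCover.cover O
  let C' := E.truncLE e
  have h0 : ∀ p, e < p → IsZero (C'.X p) := fun p hp => C'.isZero_of_isStrictlyLE e p hp
  have := V.quasiIso_resAug C' e h0
  refine ⟨V.res.obj C', V.resAug.app C' ≫ E.ιTruncLE e, inferInstance, V.res_X_zero C' e h0, fun n =>
    V.res_X_prop ModSite.IsFlat KFlatSite.isFlat_coverObj (fun _ => KFlatSite.isFlat_of_isZero)
      (fun e h => ?_) KFlatSite.isFlat_sigma₀ C' n⟩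
  exact Groth.SitesTopoi.ModH.isFlat_of_iso e h

section

variable {P : CochainComplex (ModSite.Mod O) ℤ} (hf : ∀ q, ModSite.IsFlat (P.X q))
include hf

lemma shortExact_tmP {S : ShortComplex (ModSite.Mod O)} (hS : S.ShortExact) :
    (S.map (tmP P)).ShortExact :=
  HomologicalComplex.shortExact_of_degreewise_shortExact _ fun q =>
    KFlatSite.flat_of_isFlat (hf q) S hS

lemma exact_homP (p : ℤ) {S : ShortComplex (ModSite.Mod O)} (hS : S.ShortExact) :
    (S.map (homP P p)).Exact :=
  (shortExact_tmP hf hS).homology_exact₂ p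

/-- `T^p` preserves epimorphisms iff `T^{p+1}` preserves monomorphisms -/
lemma epi_iff_mono (p : ℤ) {S : ShortComplex (ModSite.Mod O)} (hS : S.ShortExact) :
    Epi ((homP P p).map S.g) ↔ Mono ((homP P (p + 1)).map S.f) := by
  have h := shortExact_tmP hf hS
  exact ((h.homology_exact₃ p (p + 1) rfl).epi_f_iff).trans
    ((h.homology_exact₁ p (p + 1) rfl).mono_g_iff).symm

/-- right exactness of `T^p` is left exactness of `T^{p+1}` -/
theorem preservesFiniteColimits_iff (p : ℤ) :
    PreservesFiniteColimits (homP P p) ↔ PreservesFiniteLimits (homP P (p + 1)) := by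
  rw [Functor.preservesFiniteColimits_iff_forall_exact_map_and_epi,
    Functor.preservesFiniteLimits_iff_forall_exact_map_and_mono]
  exact ⟨fun h S hS => ⟨exact_homP hf _ hS, (epi_iff_mono hf p hS).1 (h S hS).2⟩,
    fun h S hS => ⟨exact_homP hf _ hS, (epi_iff_mono hf p hS).2 (h S hS).2⟩⟩

/-- the opcycles of `M ⊗ P` -/
noncomputable def opIso (a b : ℤ) (hab : (ComplexShape.up ℤ).prev b = a) (M : ModSite.Mod O) :
    ((tmP P).obj M).opcycles b ≅ ((T).obj M).obj (cokernel (P.d a b)) :=
  IsColimit.coconePointUniqueUpToIso (((tmP P).obj M).opcyclesIsCokernel a b hab)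
    (isColimitOfHasCokernelOfPreservesColimit ((T).obj M) (P.d a b))

omit hf in
lemma opIso_natural (a b : ℤ) (hab : (ComplexShape.up ℤ).prev b = a) {M N : ModSite.Mod O} (f : M ⟶ N) :
    opcyclesMap ((tmP P).map f) b ≫
      (IsColimit.coconePointUniqueUpToIso (((tmP P).obj N).opcyclesIsCokernel a b hab)
        (isColimitOfHasCokernelOfPreservesColimit ((T).obj N) (P.d a b))).hom =
    (IsColimit.coconePointUniqueUpToIso (((tmP P).obj M).opcyclesIsCokernel a b hab)
        (isColimitOfHasCokernelOfPreservesColimit ((T).obj M) (P.d a b))).hom ≫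
      ((T).map f).app (cokernel (P.d a b)) := by
  have hN := IsColimit.comp_coconePointUniqueUpToIso_hom (((tmP P).obj N).opcyclesIsCokernel a b hab)
    (isColimitOfHasCokernelOfPreservesColimit ((T).obj N) (P.d a b)) WalkingParallelPair.one
  have hM := IsColimit.comp_coconePointUniqueUpToIso_hom (((tmP P).obj M).opcyclesIsCokernel a b hab)
    (isColimitOfHasCokernelOfPreservesColimit ((T).obj M) (P.d a b)) WalkingParallelPair.one
  rw [← cancel_epi (((tmP P).obj M).pOpcycles b)]
  refine ((Category.assoc _ _ _).symm.trans (congrArg (· ≫ _) (p_opcyclesMap ((tmP P).map f) b))).trans ?_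
  refine (Category.assoc _ _ _).trans ((congrArg (_ ≫ ·) hN).trans ?_)
  refine Eq.trans ?_ (((congrArg (· ≫ ((T).map f).app (cokernel (P.d a b))) hM).symm).trans (Category.assoc _ _ _))
  exact (((T).map f).naturality (cokernel.π (P.d a b))).symm

/-- left exactness of `T^b` is flatness of the cokernel of the differential into degree `b` -/
theorem preservesFiniteLimits_iff_isFlat (b : ℤ) :
    PreservesFiniteLimits (homP P b) ↔ ModSite.IsFlat (cokernel (P.d (b - 1) b)) := by
  have hab : (ComplexShape.up ℤ).prev b = b - 1 := by simp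
  have hbc : (ComplexShape.up ℤ).next b = b + 1 := by simp
  have key : ∀ {M N : ModSite.Mod O} (f : M ⟶ N),
      Mono (opcyclesMap ((tmP P).map f) b) ↔ Mono (((T).map f).app (cokernel (P.d (b - 1) b))) :=
    fun {M N} f => (MorphismProperty.monomorphisms _).arrow_mk_iso_iff
      (Arrow.isoMk _ _ (opIso_natural (b - 1) b hab f).symm)
  constructor
  · intro h
    refine isFlat_of_mono _ fun G H φ _ => (key φ).1 ?_
    refine Preadditive.mono_of_cancel_zero _ fun {K} k hk => ?_
    have : Mono (((tmP P).map φ).f (b + 1)) := mono_tensorFlip_map (hf (b + 1)) φ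
    have h1 : k ≫ ((tmP P).obj G).fromOpcycles b (b + 1) = 0 := by
      rw [← cancel_mono (((tmP P).map φ).f (b + 1)), zero_comp, Category.assoc]
      have e : opcyclesMap ((tmP P).map φ) b ≫ ((tmP P).obj H).fromOpcycles b (b + 1) =
          ((tmP P).obj G).fromOpcycles b (b + 1) ≫ ((tmP P).map φ).f (b + 1) := by
        rw [← cancel_epi (((tmP P).obj G).pOpcycles b)]
        simp
      rw [← e, ← Category.assoc, hk, zero_comp]
    let l : K ⟶ ((tmP P).obj G).homology b :=
      (((tmP P).obj G).homologyIsKernel b (b + 1) hbc).lift (KernelFork.ofι k h1)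
    have hl : l ≫ ((tmP P).obj G).homologyι b = k :=
      (((tmP P).obj G).homologyIsKernel b (b + 1) hbc).fac (KernelFork.ofι k h1) WalkingParallelPair.zero
    have : Mono (homologyMap ((tmP P).map φ) b) := inferInstanceAs (Mono ((homP P b).map φ))
    have h2 : l = 0 := by
      rw [← cancel_mono (homologyMap ((tmP P).map φ) b), zero_comp,
        ← cancel_mono (((tmP P).obj H).homologyι b), zero_comp, Category.assoc, homologyι_naturality,
        ← Category.assoc, hl, hk]
    rw [← hl, h2, zero_comp]
  · intro h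
    rw [Functor.preservesFiniteLimits_iff_forall_exact_map_and_mono]
    intro S hS
    refine ⟨exact_homP hf b hS, ?_⟩
    have := hS.mono_f
    have : Mono (opcyclesMap ((tmP P).map S.f) b) := (key S.f).2 (mono_tensorFlip_map h S.f)
    have : Mono (homologyMap ((tmP P).map S.f) b ≫ ((tmP P).obj S.X₂).homologyι b) := by
      rw [homologyι_naturality]; exact mono_comp _ _
    exact mono_of_mono (homologyMap ((tmP P).map S.f) b) (((tmP P).obj S.X₂).homologyι b)

end

section statements

variable (E : CochainComplex (ModSite.Mod O) ℤ) [ModSite.HasLTensorCx E]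

theorem rightExact_iff_leftExact_succ (e : ℤ) [(DerivedCategory.Q.obj E).IsLE e] (p : ℤ) :
    PreservesFiniteColimits (homL E p) ↔ PreservesFiniteLimits (homL E (p + 1)) := by
  obtain ⟨P, β, _, h0, hf⟩ := exists_flat_rep E e
  obtain ⟨i⟩ := nonempty_homLIso E p (isKFlat_of_flat P h0 hf) β
  obtain ⟨j⟩ := nonempty_homLIso E (p + 1) (isKFlat_of_flat P h0 hf) β
  exact ⟨fun _ => have := (preservesFiniteColimits_iff hf p).1 (preservesFiniteColimits_of_natIso i)
      preservesFiniteLimits_of_natIso j.symm,
    fun _ => have := (preservesFiniteColimits_iff hf p).2 (preservesFiniteLimits_of_natIso j)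
      preservesFiniteColimits_of_natIso i.symm⟩

theorem rightExact_iff_isFlat (e : ℤ) (h0 : ∀ i : ℤ, e < i → IsZero (E.X i))
    (hf : ∀ i : ℤ, ModSite.IsFlat (E.X i)) (p : ℤ) :
    PreservesFiniteColimits (homL E p) ↔ ModSite.IsFlat (cokernel (E.d p (p + 1))) := by
  obtain ⟨i⟩ := nonempty_homLIso E p (isKFlat_of_flat E h0 hf) (𝟙 E)
  have hi : PreservesFiniteColimits (homL E p) ↔ PreservesFiniteColimits (homP E p) :=
    ⟨fun _ => preservesFiniteColimits_of_natIso i, fun _ => preservesFiniteColimits_of_natIso i.symm⟩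
  rw [hi, preservesFiniteColimits_iff hf p, preservesFiniteLimits_iff_isFlat hf (p + 1),
    show p + 1 - 1 = p by omega]

end statements

end Groth.DerivedCoh.ExactHom.Site
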